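import Cfsg.Agent.Lib.Compute.CosetOrbit

/-! Coset enumeration certificate data (subgroup of index 9). -/

set_option autoImplicit false
set_option maxRecDepth 100000
set_option Elab.async false

namespace Cfsg.Agent.TransvUniq.M24.CertJ

open Cfsg.Agent.CosetCert

/-- the coset table -/
def tab : Tab :=
  .leaf 0x700080006000800080008000700070005000700030006000800060006000200050005000700050004000400020003000400060003000100040003000500020004000100020000000100030002000100010000000000000000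

/-- base relators -/
def base : List (List ℕ) := [
  [0, 4, 0, 4],
  [0, 4, 0, 4],
  [1, 3, 1, 3, 4, 3, 4],
  [1, 3, 1, 3, 4, 3, 4],
  [0, 2, 0, 2, 0, 2, 0, 2],
  [0, 2, 1, 3, 0, 2, 1, 3],
  [1, 2, 1, 2, 1, 2, 1, 2],
  [1, 3, 1, 3, 1, 3, 1, 3],
  [0, 1, 0, 1, 0, 1, 0, 1],
  [0, 1, 3, 1, 0, 1, 3, 1],
  [0, 3, 0, 3, 0, 3, 0, 3],
  [0, 3, 4, 3, 0, 3, 4, 3],
  [1, 3, 1, 4, 1, 3, 1, 4],
  [1, 4, 3, 4, 1, 4, 3, 4],
  [2, 3, 2, 3, 2, 3, 2, 3],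
  [0, 1, 0, 1, 0, 1, 0, 1],
  [0, 1, 3, 1, 0, 1, 3, 1],
  [0, 3, 0, 3, 0, 3, 0, 3],
  [0, 3, 4, 3, 0, 3, 4, 3],
  [1, 3, 1, 4, 1, 3, 1, 4],
  [1, 4, 3, 4, 1, 4, 3, 4],
  [2, 3, 2, 3, 2, 3, 2, 3],
  [0, 1, 0, 1, 4, 1, 0, 1, 4],
  [0, 1, 3, 1, 0, 3, 4, 3, 4],
  [0, 1, 3, 1, 4, 0, 3, 4, 3],
  [0, 3, 1, 3, 1, 4, 3, 0, 4],
  [0, 1, 0, 1, 4, 1, 0, 1, 4],
  [0, 1, 3, 1, 0, 3, 4, 3, 4],
  [0, 1, 3, 1, 4, 0, 3, 4, 3],
  [0, 3, 1, 3, 1, 4, 3, 0, 4],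
  [0, 3, 1, 2, 4, 2, 3, 1, 4, 1, 2, 4],
  [0, 1, 2, 1, 2, 4, 0, 2, 3, 2, 4],
  [1, 2, 4, 2, 4, 2, 1, 2, 4, 2, 4, 2]]

/-- rotations of the relators -/
def rots : WTab :=
  (.node (.node (.node (.node (.node (.node (.node (.node (.leaf [0, 4, 0, 4]) (.leaf [4, 2, 3, 1, 4, 1, 2, 4, 0, 3, 1, 2])) (.node (.leaf [1, 4, 1, 0, 1, 0, 4, 1, 0]) (.leaf [0, 4, 0, 4]))) (.node (.node (.leaf [0, 1, 3, 1, 0, 1, 3, 1]) (.leaf [2, 3, 2, 0, 4, 2, 1, 2, 1, 0, 4])) (.node (.leaf [3, 0, 1, 3, 1, 4, 0, 3, 4]) (.leaf [0, 4, 0, 4])))) (.node (.node (.node (.leaf [0, 2, 0, 2, 0, 2, 0, 2]) (.leaf [2, 1, 3, 0, 4, 2, 1, 4, 1, 3, 2, 4])) (.node (.leaf [3, 4, 3, 0, 1, 3, 1, 0, 4]) (.leaf [0, 4, 0, 4]))) (.node (.node (.leaf [3, 4, 1, 4, 3, 4, 1, 4]) (.leaf [0, 4, 0, 4])) (.node (.leaf [3, 0, 4, 0, 3, 1, 3, 1, 4]) (.leaf [0, 4, 0, 4]))))) (.node (.node (.node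 (.node (.leaf [4, 1, 3, 1, 3, 4, 3]) (.leaf [4, 2, 1, 4, 1, 3, 2, 4, 2, 1, 3, 0])) (.node (.leaf [3, 1, 0, 3, 4, 3, 4, 0, 1]) (.leaf [0, 4, 0, 4]))) (.node (.node (.leaf [4, 3, 0, 3, 4, 3, 0, 3]) (.leaf [1, 0, 4, 2, 3, 2, 0, 4, 2, 1, 2])) (.node (.leaf [1, 0, 3, 4, 3, 0, 4, 1, 3]) (.leaf [0, 4, 0, 4])))) (.node (.node (.node (.leaf [2, 0, 3, 1, 2, 0, 3, 1]) (.leaf [2, 4, 0, 2, 3, 2, 4, 0, 1, 2, 1])) (.node (.leaf [0, 1, 3, 1, 4, 0, 3, 4, 3]) (.leaf [0, 4, 0, 4]))) (.node (.node (.leaf [4, 1, 0, 1, 4, 0, 1, 0, 1]) (.leaf [0, 4, 0, 4])) (.node (.leaf [3, 1, 3, 0, 4, 0, 3, 4, 1]) (.leaf [0, 4, 0, 4])))))) (.node (.node (.node (.node (.node (.leaf [1, 3, 4, 3, 4, 1, 3]) (.leaf [4, 1, 2, 4, 0, 3, 1, 2, 4, 2, 3, 1])) (.node (.leaf [1, 0, 4, 1, 0, 1, 4, 1, 0]) (.leaf [0, 4, 0, 4]))) (.node (.node (.leaf [0, 3, 0, 3, 0, 3, 0, 3]) (.leaf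 [4, 2, 1, 2, 1, 0, 4, 2, 3, 2, 0])) (.node (.leaf [0, 4, 1, 3, 1, 0, 3, 4, 3]) (.leaf [0, 4, 0, 4])))) (.node (.node (.node (.leaf [1, 3, 0, 2, 1, 3, 0, 2]) (.leaf [0, 1, 2, 1, 2, 4, 0, 2, 3, 2, 4])) (.node (.leaf [1, 3, 1, 0, 4, 3, 4, 3, 0]) (.leaf [0, 4, 0, 4]))) (.node (.node (.leaf [0, 1, 0, 1, 4, 1, 0, 1, 4]) (.leaf [0, 4, 0, 4])) (.node (.leaf [0, 3, 4, 1, 3, 1, 3, 0, 4]) (.leaf [0, 4, 0, 4]))))) (.node (.node (.node (.node (.leaf [3, 1, 3, 1, 4, 3, 4]) (.leaf [1, 3, 2, 4, 2, 1, 3, 0, 4, 2, 1, 4])) (.node (.leaf [4, 3, 4, 0, 1, 3, 1, 0, 3]) (.leaf [0, 4, 0, 4]))) (.node (.node (.leaf [1, 4, 1, 3, 1, 4, 1, 3]) (.leaf [4, 2, 4, 2, 1, 2, 4, 2, 4, 2, 1, 2])) (.node (.leaf [1, 3, 1, 4, 3, 0, 4, 0, 3]) (.leaf [0, 4, 0, 4])))) (.node (.node (.node (.leaf [1, 3, 1, 3, 1, 3, 1, 3]) (.leaf [3, 2, 4, 0, 1, 2, 1, 2, 4, 0, 2])) (.node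 (.leaf [4, 0, 3, 4, 3, 0, 1, 3, 1]) (.leaf [0, 4, 0, 4]))) (.node (.node (.leaf [4, 0, 1, 0, 1, 4, 1, 0, 1]) (.leaf [0, 4, 0, 4])) (.node (.leaf [0, 3, 1, 2, 4, 2, 3, 1, 4, 1, 2, 4]) (.leaf [0, 4, 0, 4]))))))) (.node (.node (.node (.node (.node (.node (.leaf [1, 3, 1, 3, 4, 3, 4]) (.leaf [3, 1, 4, 1, 2, 4, 0, 3, 1, 2, 4, 2])) (.node (.leaf [1, 0, 1, 0, 4, 1, 0, 1, 4]) (.leaf [0, 4, 0, 4]))) (.node (.node (.leaf [3, 1, 0, 1, 3, 1, 0, 1]) (.leaf [2, 0, 4, 2, 1, 2, 1, 0, 4, 2, 3])) (.node (.leaf [4, 3, 0, 4, 1, 3, 1, 0, 3]) (.leaf [0, 4, 0, 4])))) (.node (.node (.node (.leaf [0, 2, 1, 3, 0, 2, 1, 3]) (.leaf [3, 0, 4, 2, 1, 4, 1, 3, 2, 4, 2, 1])) (.node (.leaf [3, 0, 1, 3, 1, 0, 4, 3, 4]) (.leaf [0, 4, 0, 4]))) (.node (.node (.leaf [2, 3, 2, 3, 2, 3, 2, 3]) (.leaf [0, 4, 0, 4])) (.node (.leaf [4, 0, 3, 1, 3, 1, 4, 3, 0]) (.leaf [0,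 4, 0, 4]))))) (.node (.node (.node (.node (.leaf [3, 4, 3, 1, 3, 1, 4]) (.leaf [1, 4, 1, 3, 2, 4, 2, 1, 3, 0, 4, 2])) (.node (.leaf [0, 3, 4, 3, 4, 0, 1, 3, 1]) (.leaf [0, 4, 0, 4]))) (.node (.node (.leaf [1, 3, 1, 4, 1, 3, 1, 4]) (.leaf [1, 2, 4, 2, 4, 2, 1, 2, 4, 2, 4, 2])) (.node (.leaf [0, 3, 1, 3, 1, 4, 3, 0, 4]) (.leaf [0, 4, 0, 4])))) (.node (.node (.node (.leaf [1, 2, 1, 2, 1, 2, 1, 2]) (.leaf [0, 2, 3, 2, 4, 0, 1, 2, 1, 2, 4])) (.node (.leaf [3, 1, 4, 0, 3, 4, 3, 0, 1]) (.leaf [0, 4, 0, 4]))) (.node (.node (.leaf [0, 1, 4, 0, 1, 0, 1, 4, 1]) (.leaf [0, 4, 0, 4])) (.node (.leaf [3, 0, 4, 0, 3, 4, 1, 3, 1]) (.leaf [0, 4, 0, 4])))))) (.node (.node (.node (.node (.node (.leaf [4, 3, 4, 1, 3, 1, 3]) (.leaf [2, 4, 0, 3, 1, 2, 4, 2, 3, 1, 4, 1])) (.node (.leaf [0, 1, 3, 1, 0, 3, 4, 3, 4]) (.leaf [0, 4, 0, 4]))) (.node (.node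 (.leaf [0, 3, 4, 3, 0, 3, 4, 3]) (.leaf [1, 2, 1, 0, 4, 2, 3, 2, 0, 4, 2])) (.node (.leaf [1, 3, 1, 0, 3, 4, 3, 0, 4]) (.leaf [0, 4, 0, 4])))) (.node (.node (.node (.leaf [3, 1, 2, 0, 3, 1, 2, 0]) (.leaf [2, 1, 2, 4, 0, 2, 3, 2, 4, 0, 1])) (.node (.leaf [1, 0, 4, 3, 4, 3, 0, 1, 3]) (.leaf [0, 4, 0, 4]))) (.node (.node (.leaf [0, 1, 4, 1, 0, 1, 4, 0, 1]) (.leaf [0, 4, 0, 4])) (.node (.leaf [4, 1, 3, 1, 3, 0, 4, 0, 3]) (.leaf [0, 4, 0, 4]))))) (.node (.node (.node (.node (.leaf [3, 1, 4, 3, 4, 3, 1]) (.leaf [2, 4, 2, 1, 3, 0, 4, 2, 1, 4, 1, 3])) (.node (.leaf [4, 0, 1, 3, 1, 0, 3, 4, 3]) (.leaf [0, 4, 0, 4]))) (.node (.node (.leaf [1, 4, 3, 4, 1, 4, 3, 4]) (.leaf [4, 2, 1, 2, 4, 2, 4, 2, 1, 2, 4, 2])) (.node (.leaf [1, 4, 3, 0, 4, 0, 3, 1, 3]) (.leaf [0, 4, 0, 4])))) (.node (.node (.node (.leaf [0, 1, 0, 1, 0, 1, 0, 1]) (.leaf [4,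 0, 1, 2, 1, 2, 4, 0, 2, 3, 2])) (.node (.leaf [3, 4, 3, 0, 1, 3, 1, 4, 0]) (.leaf [0, 4, 0, 4]))) (.node (.node (.leaf [1, 0, 1, 4, 1, 0, 1, 0, 4]) (.leaf [0, 4, 0, 4])) (.node (.leaf [1, 2, 4, 2, 3, 1, 4, 1, 2, 4, 0, 3]) (.leaf [0, 4, 0, 4])))))))) (.node (.node (.node (.node (.node (.node (.node (.leaf [4, 0, 4, 0]) (.leaf [2, 3, 1, 4, 1, 2, 4, 0, 3, 1, 2, 4])) (.node (.leaf [4, 1, 0, 1, 0, 4, 1, 0, 1]) (.leaf [0, 4, 0, 4]))) (.node (.node (.leaf [1, 3, 1, 0, 1, 3, 1, 0]) (.leaf [3, 2, 0, 4, 2, 1, 2, 1, 0, 4, 2])) (.node (.leaf [3, 4, 3, 0, 4, 1, 3, 1, 0]) (.leaf [0, 4, 0, 4])))) (.node (.node (.node (.leaf [2, 0, 2, 0, 2, 0, 2, 0]) (.leaf [1, 3, 0, 4, 2, 1, 4, 1, 3, 2, 4, 2])) (.node (.leaf [4, 3, 0, 1, 3, 1, 0, 4, 3]) (.leaf [0, 4, 0, 4]))) (.node (.node (.leaf [4, 1, 4, 3, 4, 1, 4, 3]) (.leaf [0, 4, 0, 4])) (.node (.leaf [0,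 4, 0, 3, 1, 3, 1, 4, 3]) (.leaf [0, 4, 0, 4]))))) (.node (.node (.node (.node (.leaf [4, 3, 4, 3, 1, 3, 1]) (.leaf [2, 1, 4, 1, 3, 2, 4, 2, 1, 3, 0, 4])) (.node (.leaf [1, 0, 3, 4, 3, 4, 0, 1, 3]) (.leaf [0, 4, 0, 4]))) (.node (.node (.leaf [3, 0, 3, 4, 3, 0, 3, 4]) (.leaf [0, 4, 2, 3, 2, 0, 4, 2, 1, 2, 1])) (.node (.leaf [0, 3, 4, 3, 0, 4, 1, 3, 1]) (.leaf [0, 4, 0, 4])))) (.node (.node (.node (.leaf [0, 3, 1, 2, 0, 3, 1, 2]) (.leaf [4, 0, 2, 3, 2, 4, 0, 1, 2, 1, 2])) (.node (.leaf [1, 3, 1, 4, 0, 3, 4, 3, 0]) (.leaf [0, 4, 0, 4]))) (.node (.node (.leaf [1, 0, 1, 4, 0, 1, 0, 1, 4]) (.leaf [0, 4, 0, 4])) (.node (.leaf [1, 3, 0, 4, 0, 3, 4, 1, 3]) (.leaf [0, 4, 0, 4])))))) (.node (.node (.node (.node (.node (.leaf [3, 4, 3, 4, 1, 3, 1]) (.leaf [1, 2, 4, 0, 3, 1, 2, 4, 2, 3, 1, 4])) (.node (.leaf [0, 4, 1, 0, 1, 4, 1, 0, 1]) (.leaf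 [0, 4, 0, 4]))) (.node (.node (.leaf [3, 0, 3, 0, 3, 0, 3, 0]) (.leaf [2, 1, 2, 1, 0, 4, 2, 3, 2, 0, 4])) (.node (.leaf [4, 1, 3, 1, 0, 3, 4, 3, 0]) (.leaf [0, 4, 0, 4])))) (.node (.node (.node (.leaf [3, 0, 2, 1, 3, 0, 2, 1]) (.leaf [1, 2, 1, 2, 4, 0, 2, 3, 2, 4, 0])) (.node (.leaf [3, 1, 0, 4, 3, 4, 3, 0, 1]) (.leaf [0, 4, 0, 4]))) (.node (.node (.leaf [1, 0, 1, 4, 1, 0, 1, 4, 0]) (.leaf [0, 4, 0, 4])) (.node (.leaf [3, 4, 1, 3, 1, 3, 0, 4, 0]) (.leaf [0, 4, 0, 4]))))) (.node (.node (.node (.node (.leaf [1, 3, 1, 4, 3, 4, 3]) (.leaf [3, 2, 4, 2, 1, 3, 0, 4, 2, 1, 4, 1])) (.node (.leaf [3, 4, 0, 1, 3, 1, 0, 3, 4]) (.leaf [0, 4, 0, 4]))) (.node (.node (.leaf [4, 1, 3, 1, 4, 1, 3, 1]) (.leaf [2, 4, 2, 1, 2, 4, 2, 4, 2, 1, 2, 4])) (.node (.leaf [3, 1, 4, 3, 0, 4, 0, 3, 1]) (.leaf [0, 4, 0, 4])))) (.node (.node (.node (.leaf [3, 1,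 3, 1, 3, 1, 3, 1]) (.leaf [2, 4, 0, 1, 2, 1, 2, 4, 0, 2, 3])) (.node (.leaf [0, 3, 4, 3, 0, 1, 3, 1, 4]) (.leaf [0, 4, 0, 4]))) (.node (.node (.leaf [4, 1, 0, 1, 4, 1, 0, 1, 0]) (.leaf [0, 4, 0, 4])) (.node (.leaf [3, 1, 2, 4, 2, 3, 1, 4, 1, 2, 4, 0]) (.leaf [0, 4, 0, 4]))))))) (.node (.node (.node (.node (.node (.node (.leaf [3, 1, 3, 4, 3, 4, 1]) (.leaf [1, 4, 1, 2, 4, 0, 3, 1, 2, 4, 2, 3])) (.node (.leaf [0, 1, 0, 4, 1, 0, 1, 4, 1]) (.leaf [0, 4, 0, 4]))) (.node (.node (.leaf [1, 0, 1, 3, 1, 0, 1, 3]) (.leaf [0, 4, 2, 1, 2, 1, 0, 4, 2, 3, 2])) (.node (.leaf [3, 0, 4, 1, 3, 1, 0, 3, 4]) (.leaf [0, 4, 0, 4])))) (.node (.node (.node (.leaf [2, 1, 3, 0, 2, 1, 3, 0]) (.leaf [0, 4, 2, 1, 4, 1, 3, 2, 4, 2, 1, 3])) (.node (.leaf [0, 1, 3, 1, 0, 4, 3, 4, 3]) (.leaf [0, 4, 0, 4]))) (.node (.node (.leaf [3, 2, 3, 2, 3, 2, 3, 2]) (.leaf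 [0, 4, 0, 4])) (.node (.leaf [4, 0, 3, 4, 1, 3, 1, 3, 0]) (.leaf [0, 4, 0, 4]))))) (.node (.node (.node (.node (.leaf [4, 3, 1, 3, 1, 4, 3]) (.leaf [4, 1, 3, 2, 4, 2, 1, 3, 0, 4, 2, 1])) (.node (.leaf [3, 4, 3, 4, 0, 1, 3, 1, 0]) (.leaf [0, 4, 0, 4]))) (.node (.node (.leaf [3, 1, 4, 1, 3, 1, 4, 1]) (.leaf [2, 4, 2, 4, 2, 1, 2, 4, 2, 4, 2, 1])) (.node (.leaf [3, 1, 3, 1, 4, 3, 0, 4, 0]) (.leaf [0, 4, 0, 4])))) (.node (.node (.node (.leaf [2, 1, 2, 1, 2, 1, 2, 1]) (.leaf [2, 3, 2, 4, 0, 1, 2, 1, 2, 4, 0])) (.node (.leaf [1, 4, 0, 3, 4, 3, 0, 1, 3]) (.leaf [0, 4, 0, 4]))) (.node (.node (.leaf [1, 4, 0, 1, 0, 1, 4, 1, 0]) (.leaf [0, 4, 0, 4])) (.node (.leaf [0, 4, 0, 3, 4, 1, 3, 1, 3]) (.leaf [0, 4, 0, 4])))))) (.node (.node (.node (.node (.node (.leaf [3, 4, 1, 3, 1, 3, 4]) (.leaf [4, 0, 3, 1, 2, 4, 2, 3, 1, 4, 1, 2])) (.node (.leaf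 [1, 3, 1, 0, 3, 4, 3, 4, 0]) (.leaf [0, 4, 0, 4]))) (.node (.node (.leaf [3, 4, 3, 0, 3, 4, 3, 0]) (.leaf [2, 1, 0, 4, 2, 3, 2, 0, 4, 2, 1])) (.node (.leaf [3, 1, 0, 3, 4, 3, 0, 4, 1]) (.leaf [0, 4, 0, 4])))) (.node (.node (.node (.leaf [1, 2, 0, 3, 1, 2, 0, 3]) (.leaf [1, 2, 4, 0, 2, 3, 2, 4, 0, 1, 2])) (.node (.leaf [0, 4, 3, 4, 3, 0, 1, 3, 1]) (.leaf [0, 4, 0, 4]))) (.node (.node (.leaf [1, 4, 1, 0, 1, 4, 0, 1, 0]) (.leaf [0, 4, 0, 4])) (.node (.leaf [1, 3, 1, 3, 0, 4, 0, 3, 4]) (.leaf [0, 4, 0, 4]))))) (.node (.node (.node (.node (.leaf [1, 4, 3, 4, 3, 1, 3]) (.leaf [4, 2, 1, 3, 0, 4, 2, 1, 4, 1, 3, 2])) (.node (.leaf [4, 3, 4, 3, 0, 1, 3, 1, 0]) (.leaf [0, 4, 0, 4]))) (.node (.node (.leaf [4, 3, 4, 1, 4, 3, 4, 1]) (.leaf [2, 1, 2, 4, 2, 4, 2, 1, 2, 4, 2, 4])) (.node (.leaf [4, 3, 0, 4, 0, 3, 1, 3, 1]) (.leaf [0, 4, 0, 4]))))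 (.node (.node (.node (.leaf [1, 0, 1, 0, 1, 0, 1, 0]) (.leaf [4, 2, 3, 2, 0, 4, 2, 1, 2, 1, 0])) (.node (.leaf [4, 3, 0, 1, 3, 1, 4, 0, 3]) (.leaf [0, 4, 0, 4]))) (.node (.node (.leaf [0, 1, 4, 1, 0, 1, 0, 4, 1]) (.leaf [0, 4, 0, 4])) (.node (.leaf [2, 4, 2, 3, 1, 4, 1, 2, 4, 0, 3, 1]) (.leaf [0, 4, 0, 4])))))))))

def hints_0 : List (ℕ × ℕ × Bool) := [
  (0, 0, false), (30, 4, false), (22, 3, true), (0, 0, false), (9, 0, false), (31, 1, true), (24, 8, false), (0, 0, false),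
  (4, 0, false), (30, 8, true), (23, 1, true), (0, 0, false), (13, 2, false), (0, 0, false), (25, 6, false), (0, 0, false),
  (2, 6, false), (30, 0, true), (23, 2, false), (0, 0, false), (11, 2, false), (31, 9, true), (24, 7, true), (0, 0, false),
  (5, 2, true), (31, 4, false), (24, 0, false), (0, 0, false), (22, 4, false), (0, 0, false), (25, 5, true), (0, 0, false),
  (2, 2, false), (30, 8, false), (22, 7, true), (0, 0, false), (10, 0, false), (31, 5, true), (24, 3, true), (0, 0, false),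
  (5, 2, false), (31, 0, false), (23, 5, true), (0, 0, false), (22, 0, false), (0, 0, false), (25, 1, true), (0, 0, false),
  (2, 3, true), (30, 4, true), (23, 6, false), (0, 0, false), (12, 2, false), (32, 2, false), (25, 2, false), (0, 0, false),
  (7, 0, false), (31, 8, false), (24, 4, false), (0, 0, false), (22, 8, false), (0, 0, false), (30, 0, false), (0, 0, false),
  (2, 0, false), (30, 6, false), (22, 5, true), (0, 0, false), (9, 2, false), (31, 3, true), (24, 1, true), (0, 0, false),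
  (5, 0, false), (30, 10, true), (23, 3, true), (0, 0, false), (14, 0, false), (0, 0, false), (25, 8, false), (0, 0, false),
  (2, 1, true), (30, 2, true), (23, 4, false), (0, 0, false), (12, 0, false), (32, 0, false), (25, 0, false), (0, 0, false),
  (6, 0, false), (31, 6, false), (24, 2, false), (0, 0, false), (22, 6, false), (0, 0, false), (25, 7, true), (0, 0, false),
  (2, 4, false), (30, 10, false), (23, 0, false), (0, 0, false), (11, 0, false), (31, 7, true), (24, 5, true), (0, 0, false),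
  (5, 0, true), (31, 2, false), (23, 7, true), (0, 0, false), (22, 2, false), (0, 0, false), (25, 3, true), (0, 0, false),
  (2, 5, true), (30, 6, true), (23, 8, false), (0, 0, false), (13, 0, false), (32, 4, false), (25, 4, false), (0, 0, false),
  (8, 0, false), (31, 10, false), (24, 6, false), (0, 0, false), (22, 1, true), (0, 0, false), (30, 2, false), (0, 0, false),
  (0, 1, false), (30, 5, false), (22, 4, true), (0, 0, false), (9, 1, false), (31, 2, true), (24, 0, true), (0, 0, false),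
  (4, 1, false), (30, 9, true), (23, 2, true), (0, 0, false), (13, 3, false), (0, 0, false), (25, 7, false), (0, 0, false),
  (2, 0, true), (30, 1, true), (23, 3, false), (0, 0, false), (11, 3, false), (31, 10, true), (24, 8, true), (0, 0, false),
  (5, 3, true), (31, 5, false), (24, 1, false), (0, 0, false), (22, 5, false), (0, 0, false), (25, 6, true), (0, 0, false),
  (2, 3, false), (30, 9, false), (22, 8, true), (0, 0, false), (10, 1, false), (31, 6, true), (24, 4, true), (0, 0, false),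
  (5, 3, false), (31, 1, false), (23, 6, true), (0, 0, false), (22, 1, false), (0, 0, false), (25, 2, true), (0, 0, false),
  (2, 4, true), (30, 5, true), (23, 7, false), (0, 0, false), (12, 3, false), (32, 3, false), (25, 3, false), (0, 0, false),
  (7, 1, false), (31, 9, false), (24, 5, false), (0, 0, false), (22, 0, true), (0, 0, false), (30, 1, false), (0, 0, false),
  (2, 1, false), (30, 7, false), (22, 6, true), (0, 0, false), (9, 3, false), (31, 4, true), (24, 2, true), (0, 0, false),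
  (5, 1, false), (30, 11, true), (23, 4, true), (0, 0, false), (14, 1, false), (0, 0, false), (25, 0, true), (0, 0, false),
  (2, 2, true), (30, 3, true), (23, 5, false), (0, 0, false), (12, 1, false), (32, 1, false), (25, 1, false), (0, 0, false),
  (6, 1, false), (31, 7, false), (24, 3, false), (0, 0, false), (22, 7, false), (0, 0, false), (25, 8, true), (0, 0, false),
  (2, 5, false), (30, 11, false), (23, 1, false), (0, 0, false), (11, 1, false), (31, 8, true), (24, 6, true), (0, 0, false),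
  (5, 1, true), (31, 3, false), (23, 8, true), (0, 0, false), (22, 3, false), (0, 0, false), (25, 4, true), (0, 0, false),
  (2, 6, true), (30, 7, true), (23, 0, true), (0, 0, false), (13, 1, false), (32, 5, false), (25, 5, false), (0, 0, false),
  (8, 1, false), (31, 0, true), (24, 7, false), (0, 0, false), (22, 2, true), (0, 0, false), (30, 3, false), (0, 0, false)]
def hints : List (ℕ × ℕ × Bool) :=
  hints_0

/-- subgroup words -/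
def sw : List (List ℕ) := [[0], [1], [2], [3]]

def subs : List (List ℕ) := [[0], [1], [2], [3]]

/-- parameters -/
def P : Params := ⟨tab, 5, rots, subs⟩

def tree_0 : List ℕ := [
  4, 6, 7, 12, 14, 19, 26, 32]
def tree : List ℕ :=
  tree_0

def ph0_0 : List ℕ := [
  2048, 2049, 2050, 2051, 4107, 8207, 4135, 20529,
  16551, 20654, 28687, 8260, 28736, 20541, 16528, 12450,
  12310, 24577, 16445, 32930, 16407, 24587, 28840, 28847,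
  32769, 24722, 32909]

/-- known edges at a check point -/
def mask0 : ℕ := 0x415244a5ad0

theorem treeRun_ok : stIs (runList (treeStep P) tree ⟨1, 0, []⟩) 9 mask0 = true := by decide +kernel

def seg0 : List Phase := [.scans ph0_0]

theorem seg0_ok : stIs (runList (phaseStep P) seg0 ⟨9, mask0, []⟩) 9 (2 ^ (9 * P.k) - 1) = true := by decide +kernel

/-- the certificate -/
def phases : List Phase :=
  seg0

theorem cert_ok : checkCert P 9 tree phases = true :=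
  checkCert_of_run P treeRun_ok (run_last P seg0_ok)

theorem gen0_ok : genOK P 9 0 = true := by decide +kernel

theorem gen1_ok : genOK P 9 1 = true := by decide +kernel

theorem gen2_ok : genOK P 9 2 = true := by decide +kernel

theorem gen3_ok : genOK P 9 3 = true := by decide +kernel

theorem gen4_ok : genOK P 9 4 = true := by decide +kernel

theorem tab_ok : tableOK P 9 = true := tableOK_of_gens P (by decide +kernel) (by decide +kernel) fun x hx =>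
  match x, hx with
  | 0, _ => gen0_ok
  | 1, _ => gen1_ok
  | 2, _ => gen2_ok
  | 3, _ => gen3_ok
  | 4, _ => gen4_ok
  | _ + 5, hx => absurd (show _ + 5 < 5 from hx) (by omega)

theorem rots_ok : rotsOK base rots.entries hints = true := by decide +kernel

end Cfsg.Agent.TransvUniq.M24.CertJ
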