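import Cfsg.Agent.Lib.Compute.CosetOrbit

/-! Coset enumeration certificate data (octad group over a subgroup of index 35). -/

set_option autoImplicit false
set_option maxRecDepth 100000
set_option Elab.async false

namespace Cfsg.Agent.TransvUniq.M24.CertK

open Cfsg.Agent.CosetCert

/-- the coset table -/
def tab : Tab :=
  .leaf 0x220022001f001a00200021000f0021001f000d001800210022001b0020001c001d001b0022000e0018001d00210022001c001d00110012001e001e00100017001e001d0019001f001700200019001f001e0017000c0020001c001f001b001c00110014001200190020001c001a00210016000e001a00220019001b000e000b0019001b001d001a0019001e00150011001600210017000f0020000a001d0014001e00180017001d001a001600180016000b001500160018000d00150015000a00160015001b001400170014000c00130014000f0010000a00130009001400130009001b000c0011000f0012001f00110018000800120011001f001c0010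0013001e00100008001000100013000f000b000e001200180022000e001a0007000f000e0020001a000700150021000d0007000d000d001c00050012000b0014000a000c00190006000f000c00160009000b001700030013000a0015000c000900120002000900090013000b000a0008000400110007001000080007000d0001000e0008000d000700080006000b000200050006000400060004000c0005000600050001000500050008000400040004000600010003000a00030002000300030002000000090006000300020002000300010007000000010001000500040002000000010000000000000000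

/-- base relators -/
def base : List (List ℕ) := [
  [0, 5, 0, 5],
  [2, 6, 2, 6],
  [0, 5, 0, 5],
  [1, 3, 1, 3, 5, 3, 5],
  [1, 3, 1, 3, 5, 3, 5],
  [0, 2, 0, 2, 0, 2, 0, 2],
  [0, 2, 1, 3, 0, 2, 1, 3],
  [1, 2, 1, 2, 1, 2, 1, 2],
  [1, 3, 1, 3, 1, 3, 1, 3],
  [0, 1, 0, 1, 0, 1, 0, 1],
  [0, 1, 0, 5, 4, 3, 4, 5],
  [0, 1, 3, 1, 0, 1, 3, 1],
  [0, 1, 5, 0, 4, 3, 4, 5],
  [0, 1, 6, 3, 1, 6, 3, 6],
  [0, 2, 0, 4, 0, 2, 0, 4],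
  [0, 3, 0, 3, 0, 3, 0, 3],
  [0, 3, 1, 6, 1, 3, 0, 6],
  [0, 3, 5, 3, 0, 3, 5, 3],
  [0, 4, 2, 4, 0, 4, 2, 4],
  [0, 4, 3, 4, 0, 5, 1, 5],
  [1, 2, 6, 5, 3, 5, 2, 6],
  [1, 2, 6, 5, 3, 5, 6, 2],
  [1, 3, 1, 5, 1, 3, 1, 5],
  [1, 4, 2, 4, 1, 4, 2, 4],
  [1, 4, 6, 4, 1, 4, 6, 4],
  [1, 5, 3, 5, 1, 5, 3, 5],
  [1, 6, 1, 6, 1, 6, 1, 6],
  [1, 6, 2, 5, 3, 5, 2, 6],
  [2, 3, 2, 3, 2, 3, 2, 3],
  [2, 4, 2, 4, 2, 4, 2, 4],
  [3, 4, 3, 4, 3, 4, 3, 4],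
  [4, 6, 4, 6, 4, 6, 4, 6],
  [0, 1, 0, 1, 0, 1, 0, 1],
  [0, 1, 3, 1, 0, 1, 3, 1],
  [0, 3, 0, 3, 0, 3, 0, 3],
  [0, 3, 5, 3, 0, 3, 5, 3],
  [1, 3, 1, 5, 1, 3, 1, 5],
  [1, 5, 3, 5, 1, 5, 3, 5],
  [2, 3, 2, 3, 2, 3, 2, 3],
  [0, 1, 0, 1, 5, 1, 0, 1, 5],
  [0, 1, 3, 1, 0, 3, 5, 3, 5],
  [0, 1, 3, 1, 5, 0, 3, 5, 3],
  [0, 1, 4, 3, 4, 5, 1, 5, 1],
  [0, 2, 0, 2, 4, 3, 2, 3, 4],
  [0, 2, 0, 3, 2, 3, 4, 2, 4],
  [0, 2, 1, 2, 0, 4, 2, 6, 4],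
  [0, 2, 1, 3, 4, 1, 4, 1, 4],
  [0, 2, 4, 0, 2, 4, 0, 2, 4],
  [0, 2, 4, 0, 4, 0, 2, 4, 2],
  [0, 2, 4, 2, 4, 0, 3, 2, 3],
  [0, 3, 0, 4, 3, 5, 1, 5, 4],
  [0, 3, 1, 3, 1, 5, 3, 0, 5],
  [1, 2, 1, 2, 6, 4, 2, 4, 6],
  [1, 2, 1, 6, 2, 4, 2, 4, 6],
  [1, 2, 6, 1, 2, 6, 3, 1, 3],
  [1, 2, 6, 1, 3, 1, 3, 2, 6],
  [1, 2, 6, 1, 3, 1, 3, 6, 2],
  [1, 2, 6, 1, 6, 2, 3, 1, 3],
  [1, 6, 4, 2, 4, 5, 3, 5, 6],
  [0, 1, 0, 1, 5, 1, 0, 1, 5],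
  [0, 1, 3, 1, 0, 3, 5, 3, 5],
  [0, 1, 3, 1, 5, 0, 3, 5, 3],
  [0, 3, 1, 3, 1, 5, 3, 0, 5],
  [0, 1, 2, 1, 0, 1, 3, 2, 3, 1],
  [0, 1, 2, 3, 1, 0, 1, 2, 3, 1],
  [0, 1, 3, 0, 3, 0, 1, 3, 0, 3],
  [0, 2, 3, 2, 3, 0, 2, 3, 2, 3],
  [0, 3, 1, 6, 1, 3, 5, 0, 5, 6],
  [0, 3, 1, 6, 2, 4, 1, 6, 1, 4],
  [0, 3, 1, 6, 4, 3, 1, 3, 6, 4],
  [4, 5, 4, 5, 4, 5, 4, 5, 4, 5],
  [0, 1, 2, 1, 2, 5, 0, 2, 3, 2, 5]]

/-- rotations of the relators -/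
def rots : WTab :=
  (.node (.node (.node (.node (.node (.node (.node (.node (.node (.node (.leaf [0, 5, 0, 5]) (.leaf [6, 1, 6, 5, 3, 5, 4, 2, 4])) (.node (.leaf [0, 2, 0, 3, 2, 3, 4, 2, 4]) (.leaf [0, 5, 0, 5]))) (.node (.node (.leaf [3, 5, 6, 2, 1, 2, 6, 5]) (.leaf [0, 5, 0, 5])) (.node (.leaf [3, 1, 3, 0, 5, 0, 3, 5, 1]) (.leaf [0, 5, 0, 5])))) (.node (.node (.node (.leaf [6, 3, 1, 6, 3, 6, 0, 1]) (.leaf [1, 6, 2, 4, 1, 6, 1, 4, 0, 3])) (.node (.leaf [4, 0, 2, 4, 2, 0, 2, 4, 0]) (.leaf [0, 5, 0, 5]))) (.node (.node (.leaf [5, 0, 1, 3, 1, 0, 3, 5, 3]) (.leaf [0, 5, 0, 5])) (.node (.leaf [3, 2, 6, 1, 2, 6, 1, 3, 1]) (.leaf [0, 5, 0, 5]))))) (.node (.node (.node (.node (.leaf [0, 1, 0, 1, 0, 1, 0, 1]) (.leaf [0, 2, 3, 2, 3, 0, 2, 3, 2, 3])) (.node (.leaf [2, 1, 2, 0, 4, 6, 2, 4, 0]) (.leaf [0, 5, 0, 5]))) (.node (.node (.leaf [2,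 4, 2, 4, 2, 4, 2, 4]) (.leaf [0, 5, 0, 5])) (.node (.leaf [4, 2, 4, 2, 6, 1, 2, 1, 6]) (.leaf [0, 5, 0, 5])))) (.node (.node (.node (.leaf [0, 4, 2, 4, 0, 4, 2, 4]) (.leaf [3, 4, 6, 1, 3, 0, 4, 6, 3, 1])) (.node (.leaf [0, 3, 0, 4, 3, 5, 1, 5, 4]) (.leaf [0, 5, 0, 5]))) (.node (.node (.leaf [4, 5, 1, 5, 1, 0, 1, 4, 3]) (.leaf [0, 5, 0, 5])) (.node (.leaf [6, 1, 6, 2, 3, 1, 3, 1, 2]) (.leaf [0, 5, 0, 5])))))) (.node (.node (.node (.node (.node (.leaf [3, 1, 5, 3, 5, 3, 1]) (.leaf [1, 0, 1, 2, 3, 1, 0, 1, 2, 3])) (.node (.leaf [2, 0, 4, 2, 4, 3, 2, 3, 0]) (.leaf [0, 5, 0, 5]))) (.node (.node (.leaf [1, 5, 3, 5, 1, 5, 3, 5]) (.leaf [0, 5, 0, 5])) (.node (.leaf [4, 6, 2, 1, 2, 1, 6, 4, 2]) (.leaf [0, 5, 0, 5])))) (.node (.node (.node (.leaf [0, 4, 0, 2, 0, 4, 0, 2]) (.leaf [3, 0, 4, 1, 6, 1, 4, 2, 6, 1])) (.node (.leaf [4, 2, 4, 0, 3,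 2, 3, 0, 2]) (.leaf [0, 5, 0, 5]))) (.node (.node (.leaf [3, 5, 3, 0, 1, 3, 1, 5, 0]) (.leaf [0, 5, 0, 5])) (.node (.leaf [3, 1, 3, 6, 2, 1, 2, 6, 1]) (.leaf [0, 5, 0, 5]))))) (.node (.node (.node (.node (.leaf [5, 0, 4, 3, 4, 5, 0, 1]) (.leaf [5, 0, 5, 6, 0, 3, 1, 6, 1, 3])) (.node (.leaf [1, 4, 3, 1, 2, 0, 4, 1, 4]) (.leaf [0, 5, 0, 5]))) (.node (.node (.leaf [1, 0, 1, 5, 1, 0, 1, 0, 5]) (.leaf [0, 5, 0, 5])) (.node (.leaf [3, 1, 2, 6, 1, 2, 6, 3, 1]) (.leaf [0, 5, 0, 5])))) (.node (.node (.node (.leaf [3, 5, 2, 6, 1, 2, 6, 5]) (.leaf [3, 2, 5, 0, 1, 2, 1, 2, 5, 0, 2])) (.node (.leaf [3, 0, 4, 5, 1, 5, 3, 4, 0]) (.leaf [0, 5, 0, 5]))) (.node (.node (.leaf [0, 2, 4, 3, 2, 3, 4, 0, 2]) (.leaf [0, 5, 0, 5])) (.node (.leaf [1, 6, 4, 2, 4, 5, 3, 5, 6]) (.leaf [0, 5, 0, 5]))))))) (.node (.node (.node (.node (.node (.node (.leaf [5, 3,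 5, 1, 3, 1, 3]) (.leaf [3, 2, 3, 1, 0, 1, 2, 1, 0, 1])) (.node (.leaf [4, 0, 2, 0, 3, 2, 3, 4, 2]) (.leaf [0, 5, 0, 5]))) (.node (.node (.leaf [1, 4, 2, 4, 1, 4, 2, 4]) (.leaf [0, 5, 0, 5])) (.node (.leaf [6, 4, 2, 4, 6, 1, 2, 1, 2]) (.leaf [0, 5, 0, 5])))) (.node (.node (.node (.leaf [6, 1, 3, 6, 1, 0, 6, 3]) (.leaf [4, 1, 6, 1, 4, 2, 6, 1, 3, 0])) (.node (.leaf [0, 4, 0, 4, 2, 0, 2, 4, 2]) (.leaf [0, 5, 0, 5]))) (.node (.node (.leaf [1, 0, 5, 3, 5, 3, 0, 1, 3]) (.leaf [0, 5, 0, 5])) (.node (.leaf [1, 6, 2, 1, 6, 2, 3, 1, 3]) (.leaf [0, 5, 0, 5]))))) (.node (.node (.node (.node (.leaf [4, 5, 0, 1, 0, 5, 4, 3]) (.leaf [2, 0, 3, 2, 3, 2, 0, 3, 2, 3])) (.node (.leaf [4, 1, 4, 1, 4, 0, 2, 1, 3]) (.leaf [0, 5, 0, 5]))) (.node (.node (.leaf [0, 1, 5, 1, 0, 1, 5, 0, 1]) (.leaf [0, 5, 0, 5])) (.node (.leaf [1, 2, 6, 1, 2, 6, 3, 1, 3]) (.leaf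 [0, 5, 0, 5])))) (.node (.node (.node (.leaf [0, 5, 1, 5, 0, 4, 3, 4]) (.leaf [0, 1, 2, 1, 2, 5, 0, 2, 3, 2, 5])) (.node (.leaf [4, 0, 3, 0, 4, 3, 5, 1, 5]) (.leaf [0, 5, 0, 5]))) (.node (.node (.leaf [5, 4, 3, 4, 1, 0, 1, 5, 1]) (.leaf [0, 5, 0, 5])) (.node (.leaf [1, 3, 2, 6, 1, 6, 2, 1, 3]) (.leaf [0, 5, 0, 5])))))) (.node (.node (.node (.node (.node (.leaf [3, 1, 2, 0, 3, 1, 2, 0]) (.leaf [3, 0, 3, 0, 1, 3, 0, 3, 0, 1])) (.node (.leaf [2, 6, 4, 0, 2, 1, 2, 0, 4]) (.leaf [0, 5, 0, 5]))) (.node (.node (.leaf [2, 5, 3, 5, 2, 6, 1, 6]) (.leaf [0, 5, 0, 5])) (.node (.leaf [1, 6, 2, 4, 2, 4, 6, 1, 2]) (.leaf [0, 5, 0, 5])))) (.node (.node (.node (.leaf [1, 3, 0, 6, 0, 3, 1, 6]) (.leaf [1, 3, 6, 4, 0, 3, 1, 6, 4, 3])) (.node (.leaf [2, 3, 0, 4, 2, 4, 2, 0, 3]) (.leaf [0, 5, 0, 5]))) (.node (.node (.leaf [1, 3, 1, 0, 3, 5, 3, 0, 5]) (.leaf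 [0, 5, 0, 5])) (.node (.leaf [1, 3, 1, 6, 2, 1, 2, 6, 3]) (.leaf [0, 5, 0, 5]))))) (.node (.node (.node (.node (.leaf [3, 4, 0, 5, 1, 0, 5, 4]) (.leaf [3, 1, 6, 1, 3, 0, 6, 5, 0, 5])) (.node (.leaf [4, 0, 2, 4, 0, 2, 4, 0, 2]) (.leaf [0, 5, 0, 5]))) (.node (.node (.leaf [0, 1, 3, 1, 0, 3, 5, 3, 5]) (.leaf [0, 5, 0, 5])) (.node (.leaf [2, 1, 3, 1, 3, 6, 2, 1, 6]) (.leaf [0, 5, 0, 5])))) (.node (.node (.node (.leaf [5, 6, 2, 1, 6, 2, 5, 3]) (.leaf [5, 2, 1, 2, 1, 0, 5, 2, 3, 2, 0])) (.node (.leaf [3, 0, 5, 0, 3, 1, 3, 1, 5]) (.leaf [0, 5, 0, 5]))) (.node (.node (.leaf [3, 2, 3, 4, 2, 0, 2, 0, 4]) (.leaf [0, 5, 0, 5])) (.node (.leaf [6, 1, 6, 4, 2, 4, 5, 3, 5]) (.leaf [0, 5, 0, 5])))))))) (.node (.node (.node (.node (.node (.node (.node (.leaf [1, 3, 1, 3, 5, 3, 5]) (.leaf [2, 1, 0, 1, 3, 2, 3, 1, 0, 1])) (.node (.leaf [2, 3, 4, 2, 4,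 0, 2, 0, 3]) (.leaf [0, 5, 0, 5]))) (.node (.node (.leaf [1, 3, 1, 5, 1, 3, 1, 5]) (.leaf [0, 5, 0, 5])) (.node (.leaf [1, 2, 1, 2, 6, 4, 2, 4, 6]) (.leaf [0, 5, 0, 5])))) (.node (.node (.node (.leaf [3, 6, 0, 1, 6, 3, 1, 6]) (.leaf [1, 6, 1, 4, 0, 3, 1, 6, 2, 4])) (.node (.leaf [2, 0, 2, 4, 0, 4, 0, 2, 4]) (.leaf [0, 5, 0, 5]))) (.node (.node (.leaf [3, 0, 1, 3, 1, 0, 5, 3, 5]) (.leaf [0, 5, 0, 5])) (.node (.leaf [2, 3, 1, 3, 1, 6, 2, 1, 6]) (.leaf [0, 5, 0, 5]))))) (.node (.node (.node (.node (.leaf [0, 5, 4, 3, 4, 5, 0, 1]) (.leaf [3, 0, 2, 3, 2, 3, 0, 2, 3, 2])) (.node (.leaf [0, 2, 1, 3, 4, 1, 4, 1, 4]) (.leaf [0, 5, 0, 5]))) (.node (.node (.leaf [4, 6, 4, 6, 4, 6, 4, 6]) (.leaf [0, 5, 0, 5])) (.node (.leaf [6, 1, 2, 1, 6, 4, 2, 4, 2]) (.leaf [0, 5, 0, 5])))) (.node (.node (.node (.leaf [0, 4, 3, 4, 0, 5, 1, 5]) (.leaf [3, 0,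 4, 6, 3, 1, 3, 4, 6, 1])) (.node (.leaf [3, 5, 1, 5, 4, 0, 3, 0, 4]) (.leaf [0, 5, 0, 5]))) (.node (.node (.leaf [1, 0, 1, 4, 3, 4, 5, 1, 5]) (.leaf [0, 5, 0, 5])) (.node (.leaf [3, 1, 3, 1, 2, 6, 1, 6, 2]) (.leaf [0, 5, 0, 5])))))) (.node (.node (.node (.node (.node (.leaf [0, 2, 1, 3, 0, 2, 1, 3]) (.leaf [1, 0, 1, 3, 2, 1, 0, 1, 3, 2])) (.node (.leaf [1, 2, 0, 4, 2, 6, 4, 0, 2]) (.leaf [0, 5, 0, 5]))) (.node (.node (.leaf [1, 6, 1, 6, 1, 6, 1, 6]) (.leaf [0, 5, 0, 5])) (.node (.leaf [2, 1, 6, 4, 2, 4, 6, 2, 1]) (.leaf [0, 5, 0, 5])))) (.node (.node (.node (.leaf [0, 3, 1, 6, 1, 3, 0, 6]) (.leaf [1, 6, 4, 3, 1, 3, 6, 4, 0, 3])) (.node (.leaf [3, 2, 3, 0, 2, 4, 2, 4, 0]) (.leaf [0, 5, 0, 5]))) (.node (.node (.leaf [5, 3, 0, 5, 1, 3, 1, 0, 3]) (.leaf [0, 5, 0, 5])) (.node (.leaf [2, 1, 2, 6, 1, 3, 1, 3, 6]) (.leaf [0, 5, 0, 5])))))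 (.node (.node (.node (.node (.leaf [4, 5, 0, 1, 5, 0, 4, 3]) (.leaf [6, 5, 0, 5, 3, 1, 6, 1, 3, 0])) (.node (.leaf [2, 0, 4, 1, 4, 1, 4, 3, 1]) (.leaf [0, 5, 0, 5]))) (.node (.node (.leaf [1, 0, 1, 0, 5, 1, 0, 1, 5]) (.leaf [0, 5, 0, 5])) (.node (.leaf [6, 2, 1, 6, 2, 1, 3, 1, 3]) (.leaf [0, 5, 0, 5])))) (.node (.node (.node (.leaf [6, 2, 5, 3, 5, 6, 2, 1]) (.leaf [2, 3, 2, 0, 5, 2, 1, 2, 1, 0, 5])) (.node (.leaf [1, 3, 1, 5, 3, 0, 5, 0, 3]) (.leaf [0, 5, 0, 5]))) (.node (.node (.leaf [2, 3, 4, 0, 2, 0, 2, 4, 3]) (.leaf [0, 5, 0, 5])) (.node (.leaf [4, 5, 3, 5, 6, 1, 6, 4, 2]) (.leaf [0, 5, 0, 5]))))))) (.node (.node (.node (.node (.node (.node (.leaf [3, 5, 3, 1, 3, 1, 5]) (.leaf [0, 1, 2, 3, 1, 0, 1, 2, 3, 1])) (.node (.leaf [3, 2, 3, 0, 2, 0, 4, 2, 4]) (.leaf [0, 5, 0, 5]))) (.node (.node (.leaf [1, 4, 6, 4, 1, 4, 6, 4]) (.leaf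 [0, 5, 0, 5])) (.node (.leaf [6, 1, 2, 1, 2, 6, 4, 2, 4]) (.leaf [0, 5, 0, 5])))) (.node (.node (.node (.leaf [1, 0, 6, 3, 6, 1, 3, 6]) (.leaf [4, 2, 6, 1, 3, 0, 4, 1, 6, 1])) (.node (.leaf [2, 0, 2, 4, 2, 0, 4, 0, 4]) (.leaf [0, 5, 0, 5]))) (.node (.node (.leaf [3, 1, 5, 0, 3, 5, 3, 0, 1]) (.leaf [0, 5, 0, 5])) (.node (.leaf [1, 2, 6, 1, 3, 1, 3, 6, 2]) (.leaf [0, 5, 0, 5]))))) (.node (.node (.node (.node (.leaf [3, 1, 0, 1, 3, 1, 0, 1]) (.leaf [1, 6, 1, 3, 5, 0, 5, 6, 0, 3])) (.node (.leaf [4, 0, 2, 1, 3, 4, 1, 4, 1]) (.leaf [0, 5, 0, 5]))) (.node (.node (.leaf [0, 1, 5, 0, 1, 0, 1, 5, 1]) (.leaf [0, 5, 0, 5])) (.node (.leaf [2, 6, 3, 1, 3, 1, 2, 6, 1]) (.leaf [0, 5, 0, 5])))) (.node (.node (.node (.leaf [1, 2, 6, 5, 3, 5, 2, 6]) (.leaf [2, 5, 0, 2, 3, 2, 5, 0, 1, 2, 1])) (.node (.leaf [5, 3, 4, 0, 3, 0, 4, 5, 1]) (.leaf [0, 5, 0,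 5]))) (.node (.node (.leaf [1, 0, 1, 5, 1, 5, 4, 3, 4]) (.leaf [0, 5, 0, 5])) (.node (.leaf [1, 6, 2, 1, 3, 1, 3, 2, 6]) (.leaf [0, 5, 0, 5])))))) (.node (.node (.node (.node (.node (.leaf [1, 2, 1, 2, 1, 2, 1, 2]) (.leaf [0, 3, 1, 0, 3, 0, 3, 1, 0, 3])) (.node (.leaf [6, 2, 4, 0, 2, 1, 2, 0, 4]) (.leaf [0, 5, 0, 5]))) (.node (.node (.leaf [2, 6, 1, 6, 2, 5, 3, 5]) (.leaf [0, 5, 0, 5])) (.node (.leaf [2, 4, 6, 1, 2, 1, 6, 2, 4]) (.leaf [0, 5, 0, 5])))) (.node (.node (.node (.leaf [0, 3, 5, 3, 0, 3, 5, 3]) (.leaf [4, 6, 3, 1, 3, 4, 6, 1, 3, 0])) (.node (.leaf [2, 4, 2, 0, 3, 2, 3, 0, 4]) (.leaf [0, 5, 0, 5]))) (.node (.node (.leaf [0, 1, 4, 3, 4, 5, 1, 5, 1]) (.leaf [0, 5, 0, 5])) (.node (.leaf [2, 1, 2, 6, 3, 1, 3, 1, 6]) (.leaf [0, 5, 0, 5]))))) (.node (.node (.node (.node (.leaf [1, 0, 5, 4, 3, 4, 0, 5]) (.leaf [3, 0, 6, 5, 0, 5,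 3, 1, 6, 1])) (.node (.leaf [0, 2, 4, 0, 4, 0, 2, 4, 2]) (.leaf [0, 5, 0, 5]))) (.node (.node (.leaf [0, 3, 5, 3, 5, 0, 1, 3, 1]) (.leaf [0, 5, 0, 5])) (.node (.leaf [6, 1, 3, 1, 3, 2, 6, 1, 2]) (.leaf [0, 5, 0, 5])))) (.node (.node (.node (.leaf [1, 2, 6, 5, 3, 5, 6, 2]) (.leaf [1, 0, 5, 2, 3, 2, 0, 5, 2, 1, 2])) (.node (.leaf [0, 3, 5, 1, 3, 1, 3, 0, 5]) (.leaf [0, 5, 0, 5]))) (.node (.node (.leaf [2, 0, 2, 0, 4, 3, 2, 3, 4]) (.leaf [0, 5, 0, 5])) (.node (.leaf [5, 4, 2, 4, 6, 1, 6, 5, 3]) (.leaf [0, 5, 0, 5]))))))))) (.node (.node (.node (.node (.node (.node (.node (.node (.leaf [2, 6, 2, 6]) (.leaf [0, 1, 2, 1, 0, 1, 3, 2, 3, 1])) (.node (.leaf [0, 3, 2, 3, 4, 2, 4, 0, 2]) (.leaf [0, 5, 0, 5]))) (.node (.node (.leaf [6, 2, 1, 2, 6, 5, 3, 5]) (.leaf [0, 5, 0, 5])) (.node (.leaf [3, 0, 5, 0, 3, 5, 1, 3, 1]) (.leaf [0, 5, 0, 5]))))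 (.node (.node (.node (.leaf [1, 6, 3, 6, 0, 1, 6, 3]) (.leaf [2, 4, 1, 6, 1, 4, 0, 3, 1, 6])) (.node (.leaf [2, 4, 2, 0, 2, 4, 0, 4, 0]) (.leaf [0, 5, 0, 5]))) (.node (.node (.leaf [3, 5, 3, 0, 1, 3, 1, 0, 5]) (.leaf [0, 5, 0, 5])) (.node (.leaf [6, 1, 2, 6, 1, 3, 1, 3, 2]) (.leaf [0, 5, 0, 5]))))) (.node (.node (.node (.node (.leaf [0, 1, 0, 5, 4, 3, 4, 5]) (.leaf [3, 2, 3, 0, 2, 3, 2, 3, 0, 2])) (.node (.leaf [2, 0, 4, 6, 2, 4, 0, 2, 1]) (.leaf [0, 5, 0, 5]))) (.node (.node (.leaf [3, 4, 3, 4, 3, 4, 3, 4]) (.leaf [0, 5, 0, 5])) (.node (.leaf [4, 2, 6, 1, 2, 1, 6, 4, 2]) (.leaf [0, 5, 0, 5])))) (.node (.node (.node (.leaf [2, 4, 0, 4, 2, 4, 0, 4]) (.leaf [6, 1, 3, 0, 4, 6, 3, 1, 3, 4])) (.node (.leaf [0, 4, 3, 5, 1, 5, 4, 0, 3]) (.leaf [0, 5, 0, 5]))) (.node (.node (.leaf [1, 5, 1, 0, 1, 4, 3, 4, 5]) (.leaf [0, 5, 0, 5])) (.node (.leaf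 [6, 2, 3, 1, 3, 1, 2, 6, 1]) (.leaf [0, 5, 0, 5])))))) (.node (.node (.node (.node (.node (.leaf [0, 2, 0, 2, 0, 2, 0, 2]) (.leaf [3, 2, 1, 0, 1, 3, 2, 1, 0, 1])) (.node (.leaf [0, 2, 1, 2, 0, 4, 2, 6, 4]) (.leaf [0, 5, 0, 5]))) (.node (.node (.leaf [3, 5, 1, 5, 3, 5, 1, 5]) (.leaf [0, 5, 0, 5])) (.node (.leaf [2, 1, 2, 1, 6, 4, 2, 4, 6]) (.leaf [0, 5, 0, 5])))) (.node (.node (.node (.leaf [0, 3, 0, 3, 0, 3, 0, 3]) (.leaf [0, 3, 1, 6, 4, 3, 1, 3, 6, 4])) (.node (.leaf [4, 0, 3, 2, 3, 0, 2, 4, 2]) (.leaf [0, 5, 0, 5]))) (.node (.node (.leaf [3, 0, 1, 3, 1, 5, 0, 3, 5]) (.leaf [0, 5, 0, 5])) (.node (.leaf [3, 6, 2, 1, 2, 6, 1, 3, 1]) (.leaf [0, 5, 0, 5]))))) (.node (.node (.node (.node (.leaf [4, 3, 4, 5, 0, 1, 5, 0]) (.leaf [5, 6, 0, 3, 1, 6, 1, 3, 5, 0])) (.node (.leaf [3, 1, 2, 0, 4, 1, 4, 1, 4]) (.leaf [0, 5, 0, 5]))) (.node (.node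 (.leaf [1, 5, 1, 0, 1, 0, 5, 1, 0]) (.leaf [0, 5, 0, 5])) (.node (.leaf [1, 3, 6, 2, 1, 6, 2, 1, 3]) (.leaf [0, 5, 0, 5])))) (.node (.node (.node (.leaf [2, 6, 1, 2, 6, 5, 3, 5]) (.leaf [5, 0, 1, 2, 1, 2, 5, 0, 2, 3, 2])) (.node (.leaf [0, 3, 1, 3, 1, 5, 3, 0, 5]) (.leaf [0, 5, 0, 5]))) (.node (.node (.leaf [4, 3, 2, 3, 4, 0, 2, 0, 2]) (.leaf [0, 5, 0, 5])) (.node (.leaf [4, 2, 4, 5, 3, 5, 6, 1, 6]) (.leaf [0, 5, 0, 5]))))))) (.node (.node (.node (.node (.node (.node (.leaf [5, 1, 3, 1, 3, 5, 3]) (.leaf [3, 1, 0, 1, 2, 1, 0, 1, 3, 2])) (.node (.leaf [2, 4, 3, 2, 3, 0, 2, 0, 4]) (.leaf [0, 5, 0, 5]))) (.node (.node (.leaf [2, 4, 1, 4, 2, 4, 1, 4]) (.leaf [0, 5, 0, 5])) (.node (.leaf [2, 4, 6, 1, 2, 1, 2, 6, 4]) (.leaf [0, 5, 0, 5])))) (.node (.node (.node (.leaf [3, 6, 1, 0, 6, 3, 6, 1]) (.leaf [6, 1, 4, 2, 6, 1, 3, 0, 4, 1])) (.node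 (.leaf [0, 4, 2, 0, 2, 4, 2, 0, 4]) (.leaf [0, 5, 0, 5]))) (.node (.node (.leaf [0, 1, 3, 1, 5, 0, 3, 5, 3]) (.leaf [0, 5, 0, 5])) (.node (.leaf [2, 1, 6, 2, 3, 1, 3, 1, 6]) (.leaf [0, 5, 0, 5]))))) (.node (.node (.node (.node (.leaf [0, 1, 3, 1, 0, 1, 3, 1]) (.leaf [0, 3, 1, 6, 1, 3, 5, 0, 5, 6])) (.node (.leaf [4, 1, 4, 0, 2, 1, 3, 4, 1]) (.leaf [0, 5, 0, 5]))) (.node (.node (.leaf [5, 1, 0, 1, 5, 0, 1, 0, 1]) (.leaf [0, 5, 0, 5])) (.node (.leaf [6, 1, 2, 6, 3, 1, 3, 1, 2]) (.leaf [0, 5, 0, 5])))) (.node (.node (.node (.leaf [1, 5, 0, 4, 3, 4, 0, 5]) (.leaf [2, 1, 2, 5, 0, 2, 3, 2, 5, 0, 1])) (.node (.leaf [5, 1, 5, 3, 4, 0, 3, 0, 4]) (.leaf [0, 5, 0, 5]))) (.node (.node (.leaf [3, 4, 1, 0, 1, 5, 1, 5, 4]) (.leaf [0, 5, 0, 5])) (.node (.leaf [2, 6, 1, 6, 2, 1, 3, 1, 3]) (.leaf [0, 5, 0, 5])))))) (.node (.node (.node (.node (.node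 (.leaf [2, 0, 3, 1, 2, 0, 3, 1]) (.leaf [3, 0, 1, 3, 0, 3, 0, 1, 3, 0])) (.node (.leaf [4, 0, 2, 1, 2, 0, 4, 2, 6]) (.leaf [0, 5, 0, 5]))) (.node (.node (.leaf [3, 5, 2, 6, 1, 6, 2, 5]) (.leaf [0, 5, 0, 5])) (.node (.leaf [2, 4, 2, 4, 6, 1, 2, 1, 6]) (.leaf [0, 5, 0, 5])))) (.node (.node (.node (.leaf [0, 6, 0, 3, 1, 6, 1, 3]) (.leaf [6, 4, 0, 3, 1, 6, 4, 3, 1, 3])) (.node (.leaf [0, 4, 2, 4, 2, 0, 3, 2, 3]) (.leaf [0, 5, 0, 5]))) (.node (.node (.leaf [1, 0, 3, 5, 3, 0, 5, 1, 3]) (.leaf [0, 5, 0, 5])) (.node (.leaf [1, 6, 2, 1, 2, 6, 3, 1, 3]) (.leaf [0, 5, 0, 5]))))) (.node (.node (.node (.node (.leaf [0, 5, 1, 0, 5, 4, 3, 4]) (.leaf [6, 1, 3, 0, 6, 5, 0, 5, 3, 1])) (.node (.leaf [2, 0, 4, 2, 0, 4, 2, 0, 4]) (.leaf [0, 5, 0, 5]))) (.node (.node (.leaf [3, 1, 0, 3, 5, 3, 5, 0, 1]) (.leaf [0, 5, 0, 5])) (.node (.leaf [1, 2, 6, 1, 3,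 1, 3, 2, 6]) (.leaf [0, 5, 0, 5])))) (.node (.node (.node (.leaf [2, 1, 6, 2, 5, 3, 5, 6]) (.leaf [1, 2, 1, 0, 5, 2, 3, 2, 0, 5, 2])) (.node (.leaf [5, 0, 3, 1, 3, 1, 5, 3, 0]) (.leaf [0, 5, 0, 5]))) (.node (.node (.leaf [3, 4, 2, 0, 2, 0, 4, 3, 2]) (.leaf [0, 5, 0, 5])) (.node (.leaf [5, 3, 5, 4, 2, 4, 6, 1, 6]) (.leaf [0, 5, 0, 5])))))))) (.node (.node (.node (.node (.node (.node (.node (.leaf [1, 3, 5, 3, 5, 1, 3]) (.leaf [0, 1, 3, 2, 3, 1, 0, 1, 2, 1])) (.node (.leaf [4, 2, 4, 0, 2, 0, 3, 2, 3]) (.leaf [0, 5, 0, 5]))) (.node (.node (.leaf [1, 5, 1, 3, 1, 5, 1, 3]) (.leaf [0, 5, 0, 5])) (.node (.leaf [1, 2, 6, 4, 2, 4, 6, 1, 2]) (.leaf [0, 5, 0, 5])))) (.node (.node (.node (.leaf [6, 3, 6, 1, 3, 6, 1, 0]) (.leaf [1, 4, 0, 3, 1, 6, 2, 4, 1, 6])) (.node (.leaf [4, 2, 0, 4, 0, 4, 2, 0, 2]) (.leaf [0, 5, 0, 5]))) (.node (.node (.leaf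 [1, 3, 1, 0, 5, 3, 5, 3, 0]) (.leaf [0, 5, 0, 5])) (.node (.leaf [1, 3, 1, 6, 2, 1, 6, 2, 3]) (.leaf [0, 5, 0, 5]))))) (.node (.node (.node (.node (.leaf [4, 3, 4, 5, 0, 1, 0, 5]) (.leaf [2, 3, 2, 0, 3, 2, 3, 2, 0, 3])) (.node (.leaf [1, 3, 4, 1, 4, 1, 4, 0, 2]) (.leaf [0, 5, 0, 5]))) (.node (.node (.leaf [0, 1, 0, 1, 5, 1, 0, 1, 5]) (.leaf [0, 5, 0, 5])) (.node (.leaf [2, 1, 6, 4, 2, 4, 2, 6, 1]) (.leaf [0, 5, 0, 5])))) (.node (.node (.node (.leaf [3, 4, 0, 5, 1, 5, 0, 4]) (.leaf [4, 5, 4, 5, 4, 5, 4, 5, 4, 5])) (.node (.leaf [1, 5, 4, 0, 3, 0, 4, 3, 5]) (.leaf [0, 5, 0, 5]))) (.node (.node (.leaf [5, 1, 5, 4, 3, 4, 1, 0, 1]) (.leaf [0, 5, 0, 5])) (.node (.leaf [3, 1, 2, 6, 1, 6, 2, 3, 1]) (.leaf [0, 5, 0, 5])))))) (.node (.node (.node (.node (.node (.leaf [1, 3, 0, 2, 1, 3, 0, 2]) (.leaf [0, 1, 3, 0, 3, 0, 1, 3, 0, 3])) (.node (.leaf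 [0, 4, 2, 6, 4, 0, 2, 1, 2]) (.leaf [0, 5, 0, 5]))) (.node (.node (.leaf [1, 6, 2, 5, 3, 5, 2, 6]) (.leaf [0, 5, 0, 5])) (.node (.leaf [1, 2, 1, 6, 2, 4, 2, 4, 6]) (.leaf [0, 5, 0, 5])))) (.node (.node (.node (.leaf [1, 6, 1, 3, 0, 6, 0, 3]) (.leaf [4, 3, 1, 3, 6, 4, 0, 3, 1, 6])) (.node (.leaf [3, 0, 2, 4, 2, 4, 0, 3, 2]) (.leaf [0, 5, 0, 5]))) (.node (.node (.leaf [0, 5, 1, 3, 1, 0, 3, 5, 3]) (.leaf [0, 5, 0, 5])) (.node (.leaf [6, 3, 1, 3, 1, 6, 2, 1, 2]) (.leaf [0, 5, 0, 5]))))) (.node (.node (.node (.node (.leaf [5, 4, 3, 4, 0, 5, 1, 0]) (.leaf [0, 5, 3, 1, 6, 1, 3, 0, 6, 5])) (.node (.leaf [0, 2, 4, 0, 2, 4, 0, 2, 4]) (.leaf [0, 5, 0, 5]))) (.node (.node (.leaf [1, 0, 5, 1, 0, 1, 5, 1, 0]) (.leaf [0, 5, 0, 5])) (.node (.leaf [1, 6, 2, 1, 3, 1, 3, 6, 2]) (.leaf [0, 5, 0, 5])))) (.node (.node (.node (.leaf [5, 3, 5, 6, 2, 1, 6,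 2]) (.leaf [2, 0, 5, 2, 1, 2, 1, 0, 5, 2, 3])) (.node (.leaf [1, 5, 3, 0, 5, 0, 3, 1, 3]) (.leaf [0, 5, 0, 5]))) (.node (.node (.leaf [4, 0, 2, 0, 2, 4, 3, 2, 3]) (.leaf [0, 5, 0, 5])) (.node (.leaf [3, 5, 6, 1, 6, 4, 2, 4, 5]) (.leaf [0, 5, 0, 5]))))))) (.node (.node (.node (.node (.node (.node (.leaf [3, 1, 3, 1, 5, 3, 5]) (.leaf [2, 3, 1, 0, 1, 2, 3, 1, 0, 1])) (.node (.leaf [3, 0, 2, 0, 4, 2, 4, 3, 2]) (.leaf [0, 5, 0, 5]))) (.node (.node (.leaf [6, 4, 1, 4, 6, 4, 1, 4]) (.leaf [0, 5, 0, 5])) (.node (.leaf [4, 2, 4, 6, 2, 1, 2, 1, 6]) (.leaf [0, 5, 0, 5])))) (.node (.node (.node (.leaf [0, 2, 0, 4, 0, 2, 0, 4]) (.leaf [6, 1, 3, 0, 4, 1, 6, 1, 4, 2])) (.node (.leaf [0, 2, 4, 2, 4, 0, 3, 2, 3]) (.leaf [0, 5, 0, 5]))) (.node (.node (.leaf [5, 0, 3, 5, 3, 0, 1, 3, 1]) (.leaf [0, 5, 0, 5])) (.node (.leaf [6, 1, 3, 1, 3, 6, 2, 1, 2])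 (.leaf [0, 5, 0, 5]))))) (.node (.node (.node (.node (.leaf [0, 1, 5, 0, 4, 3, 4, 5]) (.leaf [1, 3, 5, 0, 5, 6, 0, 3, 1, 6])) (.node (.leaf [1, 4, 1, 4, 3, 1, 2, 0, 4]) (.leaf [0, 5, 0, 5]))) (.node (.node (.leaf [5, 0, 1, 0, 1, 5, 1, 0, 1]) (.leaf [0, 5, 0, 5])) (.node (.leaf [3, 1, 3, 1, 2, 6, 1, 2, 6]) (.leaf [0, 5, 0, 5])))) (.node (.node (.node (.leaf [6, 5, 3, 5, 2, 6, 1, 2]) (.leaf [0, 2, 3, 2, 5, 0, 1, 2, 1, 2, 5])) (.node (.leaf [4, 0, 3, 0, 4, 5, 1, 5, 3]) (.leaf [0, 5, 0, 5]))) (.node (.node (.leaf [0, 2, 0, 2, 4, 3, 2, 3, 4]) (.leaf [0, 5, 0, 5])) (.node (.leaf [2, 1, 3, 1, 3, 2, 6, 1, 6]) (.leaf [0, 5, 0, 5])))))) (.node (.node (.node (.node (.node (.leaf [1, 3, 1, 3, 1, 3, 1, 3]) (.leaf [1, 0, 3, 0, 3, 1, 0, 3, 0, 3])) (.node (.leaf [4, 0, 2, 1, 2, 0, 4, 6, 2]) (.leaf [0, 5, 0, 5]))) (.node (.node (.leaf [2, 3, 2, 3,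 2, 3, 2, 3]) (.leaf [0, 5, 0, 5])) (.node (.leaf [6, 1, 2, 1, 6, 2, 4, 2, 4]) (.leaf [0, 5, 0, 5])))) (.node (.node (.node (.leaf [5, 3, 0, 3, 5, 3, 0, 3]) (.leaf [3, 1, 3, 4, 6, 1, 3, 0, 4, 6])) (.node (.leaf [2, 0, 3, 2, 3, 0, 4, 2, 4]) (.leaf [0, 5, 0, 5]))) (.node (.node (.leaf [4, 3, 4, 5, 1, 5, 1, 0, 1]) (.leaf [0, 5, 0, 5])) (.node (.leaf [1, 2, 6, 1, 6, 2, 3, 1, 3]) (.leaf [0, 5, 0, 5]))))) (.node (.node (.node (.node (.leaf [0, 1, 6, 3, 1, 6, 3, 6]) (.leaf [0, 3, 1, 6, 2, 4, 1, 6, 1, 4])) (.node (.leaf [4, 0, 4, 0, 2, 4, 2, 0, 2]) (.leaf [0, 5, 0, 5]))) (.node (.node (.leaf [5, 3, 5, 0, 1, 3, 1, 0, 3]) (.leaf [0, 5, 0, 5])) (.node (.leaf [3, 1, 3, 2, 6, 1, 2, 6, 1]) (.leaf [0, 5, 0, 5])))) (.node (.node (.node (.leaf [6, 5, 3, 5, 6, 2, 1, 2]) (.leaf [0, 5, 0, 5])) (.node (.leaf [5, 1, 3, 1, 3, 0, 5, 0, 3]) (.leaf [0, 5, 0,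 5]))) (.node (.node (.leaf [2, 0, 4, 3, 2, 3, 4, 2, 0]) (.leaf [0, 5, 0, 5])) (.node (.leaf [2, 4, 6, 1, 6, 5, 3, 5, 4]) (.leaf [0, 5, 0, 5])))))))))) (.node (.node (.node (.node (.node (.node (.node (.node (.node (.leaf [5, 0, 5, 0]) (.leaf [1, 6, 5, 3, 5, 4, 2, 4, 6])) (.node (.leaf [2, 0, 3, 2, 3, 4, 2, 4, 0]) (.leaf [0, 5, 0, 5]))) (.node (.node (.leaf [5, 6, 2, 1, 2, 6, 5, 3]) (.leaf [0, 5, 0, 5])) (.node (.leaf [1, 3, 0, 5, 0, 3, 5, 1, 3]) (.leaf [0, 5, 0, 5])))) (.node (.node (.node (.leaf [3, 1, 6, 3, 6, 0, 1, 6]) (.leaf [6, 2, 4, 1, 6, 1, 4, 0, 3, 1])) (.node (.leaf [0, 2, 4, 2, 0, 2, 4, 0, 4]) (.leaf [0, 5, 0, 5]))) (.node (.node (.leaf [5, 3, 5, 3, 0, 1, 3, 1, 0]) (.leaf [0, 5, 0, 5])) (.node (.leaf [2, 6, 1, 2, 6, 1, 3, 1, 3]) (.leaf [0, 5, 0, 5]))))) (.node (.node (.node (.node (.leaf [1, 0, 1, 0, 1, 0, 1, 0]) (.leaf [2,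 3, 2, 3, 0, 2, 3, 2, 3, 0])) (.node (.leaf [1, 2, 0, 4, 6, 2, 4, 0, 2]) (.leaf [0, 5, 0, 5]))) (.node (.node (.leaf [4, 2, 4, 2, 4, 2, 4, 2]) (.leaf [0, 5, 0, 5])) (.node (.leaf [2, 4, 2, 6, 1, 2, 1, 6, 4]) (.leaf [0, 5, 0, 5])))) (.node (.node (.node (.leaf [4, 2, 4, 0, 4, 2, 4, 0]) (.leaf [4, 6, 1, 3, 0, 4, 6, 3, 1, 3])) (.node (.leaf [3, 0, 4, 3, 5, 1, 5, 4, 0]) (.leaf [0, 5, 0, 5]))) (.node (.node (.leaf [5, 1, 5, 1, 0, 1, 4, 3, 4]) (.leaf [0, 5, 0, 5])) (.node (.leaf [1, 6, 2, 3, 1, 3, 1, 2, 6]) (.leaf [0, 5, 0, 5])))))) (.node (.node (.node (.node (.node (.leaf [1, 5, 3, 5, 3, 1, 3]) (.leaf [1, 3, 2, 1, 0, 1, 3, 2, 1, 0])) (.node (.leaf [0, 4, 2, 4, 3, 2, 3, 0, 2]) (.leaf [0, 5, 0, 5]))) (.node (.node (.leaf [5, 3, 5, 1, 5, 3, 5, 1]) (.leaf [0, 5, 0, 5])) (.node (.leaf [6, 2, 1, 2, 1, 6, 4, 2, 4]) (.leaf [0, 5, 0, 5])))) (.node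 (.node (.node (.leaf [4, 0, 2, 0, 4, 0, 2, 0]) (.leaf [0, 4, 1, 6, 1, 4, 2, 6, 1, 3])) (.node (.leaf [2, 4, 0, 3, 2, 3, 0, 2, 4]) (.leaf [0, 5, 0, 5]))) (.node (.node (.leaf [5, 3, 0, 1, 3, 1, 5, 0, 3]) (.leaf [0, 5, 0, 5])) (.node (.leaf [1, 3, 6, 2, 1, 2, 6, 1, 3]) (.leaf [0, 5, 0, 5]))))) (.node (.node (.node (.node (.leaf [0, 4, 3, 4, 5, 0, 1, 5]) (.leaf [0, 5, 6, 0, 3, 1, 6, 1, 3, 5])) (.node (.leaf [4, 3, 1, 2, 0, 4, 1, 4, 1]) (.leaf [0, 5, 0, 5]))) (.node (.node (.leaf [0, 1, 5, 1, 0, 1, 0, 5, 1]) (.leaf [0, 5, 0, 5])) (.node (.leaf [3, 1, 3, 6, 2, 1, 6, 2, 1]) (.leaf [0, 5, 0, 5])))) (.node (.node (.node (.leaf [5, 2, 6, 1, 2, 6, 5, 3]) (.leaf [2, 5, 0, 1, 2, 1, 2, 5, 0, 2, 3])) (.node (.leaf [0, 4, 5, 1, 5, 3, 4, 0, 3]) (.leaf [0, 5, 0, 5]))) (.node (.node (.leaf [2, 4, 3, 2, 3, 4, 0, 2, 0]) (.leaf [0, 5, 0, 5])) (.node (.leaf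 [6, 4, 2, 4, 5, 3, 5, 6, 1]) (.leaf [0, 5, 0, 5]))))))) (.node (.node (.node (.node (.node (.node (.leaf [3, 5, 1, 3, 1, 3, 5]) (.leaf [2, 3, 1, 0, 1, 2, 1, 0, 1, 3])) (.node (.leaf [4, 2, 4, 3, 2, 3, 0, 2, 0]) (.leaf [0, 5, 0, 5]))) (.node (.node (.leaf [4, 2, 4, 1, 4, 2, 4, 1]) (.leaf [0, 5, 0, 5])) (.node (.leaf [4, 2, 4, 6, 1, 2, 1, 2, 6]) (.leaf [0, 5, 0, 5])))) (.node (.node (.node (.leaf [1, 3, 6, 1, 0, 6, 3, 6]) (.leaf [1, 6, 1, 4, 2, 6, 1, 3, 0, 4])) (.node (.leaf [4, 0, 4, 2, 0, 2, 4, 2, 0]) (.leaf [0, 5, 0, 5]))) (.node (.node (.leaf [0, 5, 3, 5, 3, 0, 1, 3, 1]) (.leaf [0, 5, 0, 5])) (.node (.leaf [6, 2, 1, 6, 2, 3, 1, 3, 1]) (.leaf [0, 5, 0, 5]))))) (.node (.node (.node (.node (.leaf [5, 0, 1, 0, 5, 4, 3, 4]) (.leaf [0, 3, 2, 3, 2, 0, 3, 2, 3, 2])) (.node (.leaf [1, 4, 1, 4, 0, 2, 1, 3, 4]) (.leaf [0, 5, 0, 5]))) (.node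 (.node (.leaf [1, 5, 1, 0, 1, 5, 0, 1, 0]) (.leaf [0, 5, 0, 5])) (.node (.leaf [2, 6, 1, 2, 6, 3, 1, 3, 1]) (.leaf [0, 5, 0, 5])))) (.node (.node (.node (.leaf [5, 1, 5, 0, 4, 3, 4, 0]) (.leaf [1, 2, 1, 2, 5, 0, 2, 3, 2, 5, 0])) (.node (.leaf [4, 5, 1, 5, 3, 4, 0, 3, 0]) (.leaf [0, 5, 0, 5]))) (.node (.node (.leaf [4, 3, 4, 1, 0, 1, 5, 1, 5]) (.leaf [0, 5, 0, 5])) (.node (.leaf [3, 2, 6, 1, 6, 2, 1, 3, 1]) (.leaf [0, 5, 0, 5])))))) (.node (.node (.node (.node (.node (.leaf [1, 2, 0, 3, 1, 2, 0, 3]) (.leaf [0, 3, 0, 1, 3, 0, 3, 0, 1, 3])) (.node (.leaf [6, 4, 0, 2, 1, 2, 0, 4, 2]) (.leaf [0, 5, 0, 5]))) (.node (.node (.leaf [5, 3, 5, 2, 6, 1, 6, 2]) (.leaf [0, 5, 0, 5])) (.node (.leaf [6, 2, 4, 2, 4, 6, 1, 2, 1]) (.leaf [0, 5, 0, 5])))) (.node (.node (.node (.leaf [3, 0, 6, 0, 3, 1, 6, 1]) (.leaf [3, 6, 4, 0, 3, 1, 6, 4, 3, 1])) (.node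 (.leaf [3, 0, 4, 2, 4, 2, 0, 3, 2]) (.leaf [0, 5, 0, 5]))) (.node (.node (.leaf [3, 1, 0, 3, 5, 3, 0, 5, 1]) (.leaf [0, 5, 0, 5])) (.node (.leaf [3, 1, 6, 2, 1, 2, 6, 3, 1]) (.leaf [0, 5, 0, 5]))))) (.node (.node (.node (.node (.leaf [4, 0, 5, 1, 0, 5, 4, 3]) (.leaf [1, 6, 1, 3, 0, 6, 5, 0, 5, 3])) (.node (.leaf [4, 2, 0, 4, 2, 0, 4, 2, 0]) (.leaf [0, 5, 0, 5]))) (.node (.node (.leaf [1, 3, 1, 0, 3, 5, 3, 5, 0]) (.leaf [0, 5, 0, 5])) (.node (.leaf [1, 3, 1, 3, 6, 2, 1, 6, 2]) (.leaf [0, 5, 0, 5])))) (.node (.node (.node (.leaf [6, 2, 1, 6, 2, 5, 3, 5]) (.leaf [2, 1, 2, 1, 0, 5, 2, 3, 2, 0, 5])) (.node (.leaf [0, 5, 0, 3, 1, 3, 1, 5, 3]) (.leaf [0, 5, 0, 5]))) (.node (.node (.leaf [2, 3, 4, 2, 0, 2, 0, 4, 3]) (.leaf [0, 5, 0, 5])) (.node (.leaf [6, 5, 3, 5, 4, 2, 4, 6, 1]) (.leaf [0, 5, 0, 5])))))))) (.node (.node (.node (.node (.node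 (.node (.node (.leaf [3, 1, 3, 5, 3, 5, 1]) (.leaf [1, 0, 1, 3, 2, 3, 1, 0, 1, 2])) (.node (.leaf [3, 4, 2, 4, 0, 2, 0, 3, 2]) (.leaf [0, 5, 0, 5]))) (.node (.node (.leaf [3, 1, 5, 1, 3, 1, 5, 1]) (.leaf [0, 5, 0, 5])) (.node (.leaf [2, 1, 2, 6, 4, 2, 4, 6, 1]) (.leaf [0, 5, 0, 5])))) (.node (.node (.node (.leaf [6, 0, 1, 6, 3, 1, 6, 3]) (.leaf [6, 1, 4, 0, 3, 1, 6, 2, 4, 1])) (.node (.leaf [2, 4, 2, 0, 4, 0, 4, 2, 0]) (.leaf [0, 5, 0, 5]))) (.node (.node (.leaf [0, 1, 3, 1, 0, 5, 3, 5, 3]) (.leaf [0, 5, 0, 5])) (.node (.leaf [3, 1, 3, 1, 6, 2, 1, 6, 2]) (.leaf [0, 5, 0, 5]))))) (.node (.node (.node (.node (.leaf [5, 4, 3, 4, 5, 0, 1, 0]) (.leaf [3, 2, 3, 2, 0, 3, 2, 3, 2, 0])) (.node (.leaf [2, 1, 3, 4, 1, 4, 1, 4, 0]) (.leaf [0, 5, 0, 5]))) (.node (.node (.leaf [6, 4, 6, 4, 6, 4, 6, 4]) (.leaf [0, 5, 0, 5])) (.node (.leaf [1, 2,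 1, 6, 4, 2, 4, 2, 6]) (.leaf [0, 5, 0, 5])))) (.node (.node (.node (.leaf [4, 3, 4, 0, 5, 1, 5, 0]) (.leaf [0, 4, 6, 3, 1, 3, 4, 6, 1, 3])) (.node (.leaf [5, 1, 5, 4, 0, 3, 0, 4, 3]) (.leaf [0, 5, 0, 5]))) (.node (.node (.leaf [1, 5, 1, 5, 4, 3, 4, 1, 0]) (.leaf [0, 5, 0, 5])) (.node (.leaf [1, 3, 1, 2, 6, 1, 6, 2, 3]) (.leaf [0, 5, 0, 5])))))) (.node (.node (.node (.node (.node (.leaf [2, 1, 3, 0, 2, 1, 3, 0]) (.leaf [0, 1, 3, 2, 1, 0, 1, 3, 2, 1])) (.node (.leaf [2, 0, 4, 2, 6, 4, 0, 2, 1]) (.leaf [0, 5, 0, 5]))) (.node (.node (.leaf [6, 1, 6, 1, 6, 1, 6, 1]) (.leaf [0, 5, 0, 5])) (.node (.leaf [1, 6, 4, 2, 4, 6, 2, 1, 2]) (.leaf [0, 5, 0, 5])))) (.node (.node (.node (.leaf [3, 1, 6, 1, 3, 0, 6, 0]) (.leaf [6, 4, 3, 1, 3, 6, 4, 0, 3, 1])) (.node (.leaf [2, 3, 0, 2, 4, 2, 4, 0, 3]) (.leaf [0, 5, 0, 5]))) (.node (.node (.leaf [3, 0,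 5, 1, 3, 1, 0, 3, 5]) (.leaf [0, 5, 0, 5])) (.node (.leaf [2, 6, 3, 1, 3, 1, 6, 2, 1]) (.leaf [0, 5, 0, 5]))))) (.node (.node (.node (.node (.leaf [5, 0, 1, 5, 0, 4, 3, 4]) (.leaf [5, 0, 5, 3, 1, 6, 1, 3, 0, 6])) (.node (.leaf [0, 4, 1, 4, 1, 4, 3, 1, 2]) (.leaf [0, 5, 0, 5]))) (.node (.node (.leaf [0, 1, 0, 5, 1, 0, 1, 5, 1]) (.leaf [0, 5, 0, 5])) (.node (.leaf [2, 1, 6, 2, 1, 3, 1, 3, 6]) (.leaf [0, 5, 0, 5])))) (.node (.node (.node (.leaf [2, 5, 3, 5, 6, 2, 1, 6]) (.leaf [3, 2, 0, 5, 2, 1, 2, 1, 0, 5, 2])) (.node (.leaf [3, 1, 5, 3, 0, 5, 0, 3, 1]) (.leaf [0, 5, 0, 5]))) (.node (.node (.leaf [3, 4, 0, 2, 0, 2, 4, 3, 2]) (.leaf [0, 5, 0, 5])) (.node (.leaf [5, 3, 5, 6, 1, 6, 4, 2, 4]) (.leaf [0, 5, 0, 5]))))))) (.node (.node (.node (.node (.node (.node (.leaf [5, 3, 1, 3, 1, 5, 3]) (.leaf [1, 2, 3, 1, 0, 1, 2, 3, 1, 0])) (.node (.leaf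 [2, 3, 0, 2, 0, 4, 2, 4, 3]) (.leaf [0, 5, 0, 5]))) (.node (.node (.leaf [4, 6, 4, 1, 4, 6, 4, 1]) (.leaf [0, 5, 0, 5])) (.node (.leaf [6, 4, 2, 4, 6, 2, 1, 2, 1]) (.leaf [0, 5, 0, 5])))) (.node (.node (.node (.leaf [0, 6, 3, 6, 1, 3, 6, 1]) (.leaf [2, 6, 1, 3, 0, 4, 1, 6, 1, 4])) (.node (.leaf [0, 2, 4, 2, 0, 4, 0, 4, 2]) (.leaf [0, 5, 0, 5]))) (.node (.node (.leaf [1, 5, 0, 3, 5, 3, 0, 1, 3]) (.leaf [0, 5, 0, 5])) (.node (.leaf [2, 6, 1, 3, 1, 3, 6, 2, 1]) (.leaf [0, 5, 0, 5]))))) (.node (.node (.node (.node (.leaf [1, 0, 1, 3, 1, 0, 1, 3]) (.leaf [6, 1, 3, 5, 0, 5, 6, 0, 3, 1])) (.node (.leaf [4, 1, 4, 1, 4, 3, 1, 2, 0]) (.leaf [0, 5, 0, 5]))) (.node (.node (.leaf [1, 5, 0, 1, 0, 1, 5, 1, 0]) (.leaf [0, 5, 0, 5])) (.node (.leaf [6, 3, 1, 3, 1, 2, 6, 1, 2]) (.leaf [0, 5, 0, 5])))) (.node (.node (.node (.leaf [2, 6, 5, 3, 5, 2, 6,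 1]) (.leaf [5, 0, 2, 3, 2, 5, 0, 1, 2, 1, 2])) (.node (.leaf [3, 4, 0, 3, 0, 4, 5, 1, 5]) (.leaf [0, 5, 0, 5]))) (.node (.node (.leaf [0, 1, 5, 1, 5, 4, 3, 4, 1]) (.leaf [0, 5, 0, 5])) (.node (.leaf [6, 2, 1, 3, 1, 3, 2, 6, 1]) (.leaf [0, 5, 0, 5])))))) (.node (.node (.node (.node (.node (.leaf [2, 1, 2, 1, 2, 1, 2, 1]) (.leaf [3, 1, 0, 3, 0, 3, 1, 0, 3, 0])) (.node (.leaf [2, 4, 0, 2, 1, 2, 0, 4, 6]) (.leaf [0, 5, 0, 5]))) (.node (.node (.leaf [6, 1, 6, 2, 5, 3, 5, 2]) (.leaf [0, 5, 0, 5])) (.node (.leaf [4, 6, 1, 2, 1, 6, 2, 4, 2]) (.leaf [0, 5, 0, 5])))) (.node (.node (.node (.leaf [3, 5, 3, 0, 3, 5, 3, 0]) (.leaf [6, 3, 1, 3, 4, 6, 1, 3, 0, 4])) (.node (.leaf [4, 2, 0, 3, 2, 3, 0, 4, 2]) (.leaf [0, 5, 0, 5]))) (.node (.node (.leaf [1, 4, 3, 4, 5, 1, 5, 1, 0]) (.leaf [0, 5, 0, 5])) (.node (.leaf [1, 2, 6, 3, 1, 3, 1, 6, 2]) (.leaf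 [0, 5, 0, 5]))))) (.node (.node (.node (.node (.leaf [0, 5, 4, 3, 4, 0, 5, 1]) (.leaf [0, 6, 5, 0, 5, 3, 1, 6, 1, 3])) (.node (.leaf [2, 4, 0, 4, 0, 2, 4, 2, 0]) (.leaf [0, 5, 0, 5]))) (.node (.node (.leaf [3, 5, 3, 5, 0, 1, 3, 1, 0]) (.leaf [0, 5, 0, 5])) (.node (.leaf [1, 3, 1, 3, 2, 6, 1, 2, 6]) (.leaf [0, 5, 0, 5])))) (.node (.node (.node (.leaf [2, 6, 5, 3, 5, 6, 2, 1]) (.leaf [0, 5, 2, 3, 2, 0, 5, 2, 1, 2, 1])) (.node (.leaf [3, 5, 1, 3, 1, 3, 0, 5, 0]) (.leaf [0, 5, 0, 5]))) (.node (.node (.leaf [0, 2, 0, 4, 3, 2, 3, 4, 2]) (.leaf [0, 5, 0, 5])) (.node (.leaf [4, 2, 4, 6, 1, 6, 5, 3, 5]) (.leaf [0, 5, 0, 5]))))))))) (.node (.node (.node (.node (.node (.node (.node (.node (.leaf [6, 2, 6, 2]) (.leaf [1, 2, 1, 0, 1, 3, 2, 3, 1, 0])) (.node (.leaf [3, 2, 3, 4, 2, 4, 0, 2, 0]) (.leaf [0, 5, 0, 5]))) (.node (.node (.leaf [2, 1, 2,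 6, 5, 3, 5, 6]) (.leaf [0, 5, 0, 5])) (.node (.leaf [0, 5, 0, 3, 5, 1, 3, 1, 3]) (.leaf [0, 5, 0, 5])))) (.node (.node (.node (.leaf [6, 3, 6, 0, 1, 6, 3, 1]) (.leaf [4, 1, 6, 1, 4, 0, 3, 1, 6, 2])) (.node (.leaf [4, 2, 0, 2, 4, 0, 4, 0, 2]) (.leaf [0, 5, 0, 5]))) (.node (.node (.leaf [5, 3, 0, 1, 3, 1, 0, 5, 3]) (.leaf [0, 5, 0, 5])) (.node (.leaf [6, 2, 3, 1, 3, 1, 6, 2, 1]) (.leaf [0, 5, 0, 5]))))) (.node (.node (.node (.node (.leaf [1, 0, 5, 4, 3, 4, 5, 0]) (.leaf [2, 3, 0, 2, 3, 2, 3, 0, 2, 3])) (.node (.leaf [0, 4, 6, 2, 4, 0, 2, 1, 2]) (.leaf [0, 5, 0, 5]))) (.node (.node (.leaf [4, 3, 4, 3, 4, 3, 4, 3]) (.leaf [0, 5, 0, 5])) (.node (.leaf [2, 6, 1, 2, 1, 6, 4, 2, 4]) (.leaf [0, 5, 0, 5])))) (.node (.node (.node (.leaf [4, 0, 4, 2, 4, 0, 4, 2]) (.leaf [1, 3, 0, 4, 6, 3, 1, 3, 4, 6])) (.node (.leaf [4, 3, 5, 1, 5, 4, 0, 3, 0])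 (.leaf [0, 5, 0, 5]))) (.node (.node (.leaf [5, 1, 0, 1, 4, 3, 4, 5, 1]) (.leaf [0, 5, 0, 5])) (.node (.leaf [2, 3, 1, 3, 1, 2, 6, 1, 6]) (.leaf [0, 5, 0, 5])))))) (.node (.node (.node (.node (.node (.leaf [2, 0, 2, 0, 2, 0, 2, 0]) (.leaf [2, 1, 0, 1, 3, 2, 1, 0, 1, 3])) (.node (.leaf [2, 1, 2, 0, 4, 2, 6, 4, 0]) (.leaf [0, 5, 0, 5]))) (.node (.node (.leaf [5, 1, 5, 3, 5, 1, 5, 3]) (.leaf [0, 5, 0, 5])) (.node (.leaf [1, 2, 1, 6, 4, 2, 4, 6, 2]) (.leaf [0, 5, 0, 5])))) (.node (.node (.node (.leaf [3, 0, 3, 0, 3, 0, 3, 0]) (.leaf [3, 1, 6, 4, 3, 1, 3, 6, 4, 0])) (.node (.leaf [0, 3, 2, 3, 0, 2, 4, 2, 4]) (.leaf [0, 5, 0, 5]))) (.node (.node (.leaf [3, 5, 3, 0, 5, 1, 3, 1, 0]) (.leaf [0, 5, 0, 5])) (.node (.leaf [6, 2, 1, 2, 6, 1, 3, 1, 3]) (.leaf [0, 5, 0, 5]))))) (.node (.node (.node (.node (.leaf [3, 4, 5, 0, 1, 5, 0, 4]) (.leaf [6,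 0, 3, 1, 6, 1, 3, 5, 0, 5])) (.node (.leaf [1, 2, 0, 4, 1, 4, 1, 4, 3]) (.leaf [0, 5, 0, 5]))) (.node (.node (.leaf [5, 1, 0, 1, 0, 5, 1, 0, 1]) (.leaf [0, 5, 0, 5])) (.node (.leaf [3, 6, 2, 1, 6, 2, 1, 3, 1]) (.leaf [0, 5, 0, 5])))) (.node (.node (.node (.leaf [6, 1, 2, 6, 5, 3, 5, 2]) (.leaf [5, 2, 3, 2, 0, 5, 2, 1, 2, 1, 0])) (.node (.leaf [3, 1, 3, 1, 5, 3, 0, 5, 0]) (.leaf [0, 5, 0, 5]))) (.node (.node (.leaf [3, 2, 3, 4, 0, 2, 0, 2, 4]) (.leaf [0, 5, 0, 5])) (.node (.leaf [2, 4, 5, 3, 5, 6, 1, 6, 4]) (.leaf [0, 5, 0, 5]))))))) (.node (.node (.node (.node (.node (.node (.leaf [5, 3, 5, 3, 1, 3, 1]) (.leaf [1, 0, 1, 2, 1, 0, 1, 3, 2, 3])) (.node (.leaf [4, 3, 2, 3, 0, 2, 0, 4, 2]) (.leaf [0, 5, 0, 5]))) (.node (.node (.leaf [4, 1, 4, 2, 4, 1, 4, 2]) (.leaf [0, 5, 0, 5])) (.node (.leaf [4, 6, 1, 2, 1, 2, 6, 4, 2]) (.leaf [0, 5,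 0, 5])))) (.node (.node (.node (.leaf [6, 1, 0, 6, 3, 6, 1, 3]) (.leaf [1, 4, 2, 6, 1, 3, 0, 4, 1, 6])) (.node (.leaf [4, 2, 0, 2, 4, 2, 0, 4, 0]) (.leaf [0, 5, 0, 5]))) (.node (.node (.leaf [1, 3, 1, 5, 0, 3, 5, 3, 0]) (.leaf [0, 5, 0, 5])) (.node (.leaf [1, 6, 2, 3, 1, 3, 1, 6, 2]) (.leaf [0, 5, 0, 5]))))) (.node (.node (.node (.node (.leaf [1, 3, 1, 0, 1, 3, 1, 0]) (.leaf [3, 1, 6, 1, 3, 5, 0, 5, 6, 0])) (.node (.leaf [1, 4, 0, 2, 1, 3, 4, 1, 4]) (.leaf [0, 5, 0, 5]))) (.node (.node (.leaf [1, 0, 1, 5, 0, 1, 0, 1, 5]) (.leaf [0, 5, 0, 5])) (.node (.leaf [1, 2, 6, 3, 1, 3, 1, 2, 6]) (.leaf [0, 5, 0, 5])))) (.node (.node (.node (.leaf [5, 0, 4, 3, 4, 0, 5, 1]) (.leaf [1, 2, 5, 0, 2, 3, 2, 5, 0, 1, 2])) (.node (.leaf [1, 5, 3, 4, 0, 3, 0, 4, 5]) (.leaf [0, 5, 0, 5]))) (.node (.node (.leaf [4, 1, 0, 1, 5, 1, 5, 4, 3]) (.leaf [0, 5,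 0, 5])) (.node (.leaf [6, 1, 6, 2, 1, 3, 1, 3, 2]) (.leaf [0, 5, 0, 5])))))) (.node (.node (.node (.node (.node (.leaf [0, 3, 1, 2, 0, 3, 1, 2]) (.leaf [3, 0, 3, 1, 0, 3, 0, 3, 1, 0])) (.node (.leaf [4, 6, 2, 4, 0, 2, 1, 2, 0]) (.leaf [0, 5, 0, 5]))) (.node (.node (.leaf [5, 2, 6, 1, 6, 2, 5, 3]) (.leaf [0, 5, 0, 5])) (.node (.leaf [4, 2, 4, 6, 1, 2, 1, 6, 2]) (.leaf [0, 5, 0, 5])))) (.node (.node (.node (.leaf [6, 0, 3, 1, 6, 1, 3, 0]) (.leaf [4, 0, 3, 1, 6, 4, 3, 1, 3, 6])) (.node (.leaf [4, 2, 4, 2, 0, 3, 2, 3, 0]) (.leaf [0, 5, 0, 5]))) (.node (.node (.leaf [0, 3, 5, 3, 0, 5, 1, 3, 1]) (.leaf [0, 5, 0, 5])) (.node (.leaf [6, 2, 1, 2, 6, 3, 1, 3, 1]) (.leaf [0, 5, 0, 5]))))) (.node (.node (.node (.node (.leaf [5, 1, 0, 5, 4, 3, 4, 0]) (.leaf [1, 3, 0, 6, 5, 0, 5, 3, 1, 6])) (.node (.leaf [0, 4, 2, 0, 4, 2, 0, 4, 2]) (.leaf [0, 5,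 0, 5]))) (.node (.node (.leaf [1, 0, 3, 5, 3, 5, 0, 1, 3]) (.leaf [0, 5, 0, 5])) (.node (.leaf [2, 6, 1, 3, 1, 3, 2, 6, 1]) (.leaf [0, 5, 0, 5])))) (.node (.node (.node (.leaf [1, 6, 2, 5, 3, 5, 6, 2]) (.leaf [2, 1, 0, 5, 2, 3, 2, 0, 5, 2, 1])) (.node (.leaf [5, 0, 3, 5, 1, 3, 1, 3, 0]) (.leaf [0, 5, 0, 5]))) (.node (.node (.leaf [4, 2, 0, 2, 0, 4, 3, 2, 3]) (.leaf [0, 5, 0, 5])) (.node (.leaf [3, 5, 4, 2, 4, 6, 1, 6, 5]) (.leaf [0, 5, 0, 5])))))))) (.node (.node (.node (.node (.node (.node (.node (.leaf [3, 5, 3, 5, 1, 3, 1]) (.leaf [1, 3, 2, 3, 1, 0, 1, 2, 1, 0])) (.node (.leaf [2, 4, 0, 2, 0, 3, 2, 3, 4]) (.leaf [0, 5, 0, 5]))) (.node (.node (.leaf [5, 1, 3, 1, 5, 1, 3, 1]) (.leaf [0, 5, 0, 5])) (.node (.leaf [2, 6, 4, 2, 4, 6, 1, 2, 1]) (.leaf [0, 5, 0, 5])))) (.node (.node (.node (.leaf [3, 6, 1, 3, 6, 1, 0, 6]) (.leaf [4, 0,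 3, 1, 6, 2, 4, 1, 6, 1])) (.node (.leaf [2, 0, 4, 0, 4, 2, 0, 2, 4]) (.leaf [0, 5, 0, 5]))) (.node (.node (.leaf [3, 1, 0, 5, 3, 5, 3, 0, 1]) (.leaf [0, 5, 0, 5])) (.node (.leaf [3, 1, 6, 2, 1, 6, 2, 3, 1]) (.leaf [0, 5, 0, 5]))))) (.node (.node (.node (.node (.leaf [3, 4, 5, 0, 1, 0, 5, 4]) (.leaf [3, 2, 0, 3, 2, 3, 2, 0, 3, 2])) (.node (.leaf [3, 4, 1, 4, 1, 4, 0, 2, 1]) (.leaf [0, 5, 0, 5]))) (.node (.node (.leaf [1, 0, 1, 5, 1, 0, 1, 5, 0]) (.leaf [0, 5, 0, 5])) (.node (.leaf [1, 6, 4, 2, 4, 2, 6, 1, 2]) (.leaf [0, 5, 0, 5])))) (.node (.node (.node (.leaf [4, 0, 5, 1, 5, 0, 4, 3]) (.leaf [5, 4, 5, 4, 5, 4, 5, 4, 5, 4])) (.node (.leaf [5, 4, 0, 3, 0, 4, 3, 5, 1]) (.leaf [0, 5, 0, 5]))) (.node (.node (.leaf [1, 5, 4, 3, 4, 1, 0, 1, 5]) (.leaf [0, 5, 0, 5])) (.node (.leaf [3, 1, 3, 2, 6, 1, 6, 2, 1]) (.leaf [0, 5, 0, 5])))))) (.node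 (.node (.node (.node (.node (.leaf [3, 0, 2, 1, 3, 0, 2, 1]) (.leaf [1, 3, 0, 3, 0, 1, 3, 0, 3, 0])) (.node (.leaf [4, 2, 6, 4, 0, 2, 1, 2, 0]) (.leaf [0, 5, 0, 5]))) (.node (.node (.leaf [6, 2, 5, 3, 5, 2, 6, 1]) (.leaf [0, 5, 0, 5])) (.node (.leaf [2, 1, 6, 2, 4, 2, 4, 6, 1]) (.leaf [0, 5, 0, 5])))) (.node (.node (.node (.leaf [6, 1, 3, 0, 6, 0, 3, 1]) (.leaf [3, 1, 3, 6, 4, 0, 3, 1, 6, 4])) (.node (.leaf [3, 2, 3, 0, 4, 2, 4, 2, 0]) (.leaf [0, 5, 0, 5]))) (.node (.node (.leaf [5, 1, 3, 1, 0, 3, 5, 3, 0]) (.leaf [0, 5, 0, 5])) (.node (.leaf [3, 1, 3, 1, 6, 2, 1, 2, 6]) (.leaf [0, 5, 0, 5]))))) (.node (.node (.node (.node (.leaf [4, 3, 4, 0, 5, 1, 0, 5]) (.leaf [5, 3, 1, 6, 1, 3, 0, 6, 5, 0])) (.node (.leaf [2, 4, 0, 2, 4, 0, 2, 4, 0]) (.leaf [0, 5, 0, 5]))) (.node (.node (.leaf [0, 5, 1, 0, 1, 5, 1, 0, 1]) (.leaf [0, 5, 0, 5])) (.node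 (.leaf [6, 2, 1, 3, 1, 3, 6, 2, 1]) (.leaf [0, 5, 0, 5])))) (.node (.node (.node (.leaf [3, 5, 6, 2, 1, 6, 2, 5]) (.leaf [0, 5, 2, 1, 2, 1, 0, 5, 2, 3, 2])) (.node (.leaf [5, 3, 0, 5, 0, 3, 1, 3, 1]) (.leaf [0, 5, 0, 5]))) (.node (.node (.leaf [4, 3, 2, 3, 4, 2, 0, 2, 0]) (.leaf [0, 5, 0, 5])) (.node (.leaf [5, 6, 1, 6, 4, 2, 4, 5, 3]) (.leaf [0, 5, 0, 5]))))))) (.node (.node (.node (.node (.node (.node (.leaf [1, 3, 1, 5, 3, 5, 3]) (.leaf [3, 1, 0, 1, 2, 3, 1, 0, 1, 2])) (.node (.leaf [0, 2, 0, 4, 2, 4, 3, 2, 3]) (.leaf [0, 5, 0, 5]))) (.node (.node (.leaf [4, 1, 4, 6, 4, 1, 4, 6]) (.leaf [0, 5, 0, 5])) (.node (.leaf [2, 4, 6, 2, 1, 2, 1, 6, 4]) (.leaf [0, 5, 0, 5])))) (.node (.node (.node (.leaf [2, 0, 4, 0, 2, 0, 4, 0]) (.leaf [1, 3, 0, 4, 1, 6, 1, 4, 2, 6])) (.node (.leaf [2, 4, 2, 4, 0, 3, 2, 3, 0]) (.leaf [0, 5, 0, 5]))) (.node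 (.node (.leaf [0, 3, 5, 3, 0, 1, 3, 1, 5]) (.leaf [0, 5, 0, 5])) (.node (.leaf [1, 3, 1, 3, 6, 2, 1, 2, 6]) (.leaf [0, 5, 0, 5]))))) (.node (.node (.node (.node (.leaf [1, 5, 0, 4, 3, 4, 5, 0]) (.leaf [3, 5, 0, 5, 6, 0, 3, 1, 6, 1])) (.node (.leaf [4, 1, 4, 3, 1, 2, 0, 4, 1]) (.leaf [0, 5, 0, 5]))) (.node (.node (.leaf [5, 1, 0, 1, 5, 1, 0, 1, 0]) (.leaf [0, 5, 0, 5])) (.node (.leaf [1, 3, 1, 2, 6, 1, 2, 6, 3]) (.leaf [0, 5, 0, 5])))) (.node (.node (.node (.leaf [5, 3, 5, 2, 6, 1, 2, 6]) (.leaf [2, 3, 2, 5, 0, 1, 2, 1, 2, 5, 0])) (.node (.leaf [0, 3, 0, 4, 5, 1, 5, 3, 4]) (.leaf [0, 5, 0, 5]))) (.node (.node (.leaf [2, 0, 2, 4, 3, 2, 3, 4, 0]) (.leaf [0, 5, 0, 5])) (.node (.leaf [1, 3, 1, 3, 2, 6, 1, 6, 2]) (.leaf [0, 5, 0, 5])))))) (.node (.node (.node (.node (.node (.leaf [3, 1, 3, 1, 3, 1, 3, 1]) (.leaf [0, 3, 0, 3, 1, 0, 3, 0,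 3, 1])) (.node (.leaf [0, 2, 1, 2, 0, 4, 6, 2, 4]) (.leaf [0, 5, 0, 5]))) (.node (.node (.leaf [3, 2, 3, 2, 3, 2, 3, 2]) (.leaf [0, 5, 0, 5])) (.node (.leaf [6, 4, 2, 4, 2, 6, 1, 2, 1]) (.leaf [0, 5, 0, 5])))) (.node (.node (.node (.leaf [3, 0, 3, 5, 3, 0, 3, 5]) (.leaf [1, 3, 4, 6, 1, 3, 0, 4, 6, 3])) (.node (.leaf [0, 3, 2, 3, 0, 4, 2, 4, 2]) (.leaf [0, 5, 0, 5]))) (.node (.node (.leaf [3, 4, 5, 1, 5, 1, 0, 1, 4]) (.leaf [0, 5, 0, 5])) (.node (.leaf [2, 6, 1, 6, 2, 3, 1, 3, 1]) (.leaf [0, 5, 0, 5]))))) (.node (.node (.node (.node (.leaf [1, 6, 3, 1, 6, 3, 6, 0]) (.leaf [3, 1, 6, 2, 4, 1, 6, 1, 4, 0])) (.node (.leaf [0, 4, 0, 2, 4, 2, 0, 2, 4]) (.leaf [0, 5, 0, 5]))) (.node (.node (.leaf [3, 5, 0, 1, 3, 1, 0, 3, 5]) (.leaf [0, 5, 0, 5])) (.node (.leaf [1, 3, 2, 6, 1, 2, 6, 1, 3]) (.leaf [0, 5, 0, 5])))) (.node (.node (.node (.leaf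 [5, 3, 5, 6, 2, 1, 2, 6]) (.leaf [0, 5, 0, 5])) (.node (.leaf [1, 3, 1, 3, 0, 5, 0, 3, 5]) (.leaf [0, 5, 0, 5]))) (.node (.node (.leaf [0, 4, 3, 2, 3, 4, 2, 0, 2]) (.leaf [0, 5, 0, 5])) (.node (.leaf [4, 6, 1, 6, 5, 3, 5, 4, 2]) (.leaf [0, 5, 0, 5])))))))))))

def hints_0 : List (ℕ × ℕ × Bool) := [
  (0, 0, false), (58, 7, true), (44, 0, false), (0, 0, false), (21, 4, false), (0, 0, false), (51, 5, true), (0, 0, false),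
  (13, 2, false), (68, 2, false), (48, 4, false), (0, 0, false), (40, 8, false), (0, 0, false), (55, 6, false), (0, 0, false),
  (9, 0, false), (66, 0, false), (45, 5, true), (0, 0, false), (29, 0, false), (0, 0, false), (53, 1, true), (0, 0, false),
  (18, 0, false), (69, 4, true), (50, 0, false), (0, 0, false), (42, 4, false), (0, 0, false), (57, 2, false), (0, 0, false),
  (3, 5, true), (64, 4, false), (44, 7, true), (0, 0, false), (25, 0, false), (0, 0, false), (52, 3, true), (0, 0, false),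
  (14, 2, false), (68, 8, true), (49, 2, false), (0, 0, false), (41, 6, false), (0, 0, false), (56, 4, false), (0, 0, false),
  (12, 2, false), (67, 6, false), (46, 3, true), (0, 0, false), (39, 1, true), (0, 0, false), (54, 8, false), (0, 0, false),
  (20, 4, false), (71, 8, false), (50, 7, true), (0, 0, false), (43, 2, false), (0, 0, false), (58, 0, false), (0, 0, false),
  (3, 4, false), (63, 6, false), (44, 8, false), (0, 0, false), (23, 0, false), (0, 0, false), (52, 4, false), (0, 0, false),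
  (13, 2, true), (68, 0, true), (48, 3, true), (0, 0, false), (40, 7, true), (0, 0, false), (55, 5, true), (0, 0, false),
  (10, 6, false), (66, 3, true), (46, 4, false), (0, 0, false), (39, 2, false), (0, 0, false), (54, 0, false), (0, 0, false),
  (19, 4, false), (71, 0, false), (50, 8, false), (0, 0, false), (42, 3, true), (0, 0, false), (57, 1, true), (0, 0, false),
  (6, 0, true), (65, 2, false), (45, 6, false), (0, 0, false), (27, 2, false), (0, 0, false), (53, 2, false), (0, 0, false),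
  (16, 4, false), (69, 6, false), (49, 1, true), (0, 0, false), (41, 5, true), (0, 0, false), (56, 3, true), (0, 0, false),
  (12, 2, true), (67, 4, true), (47, 2, false), (0, 0, false), (40, 0, false), (0, 0, false), (54, 7, true), (0, 0, false),
  (20, 4, true), (71, 5, true), (51, 6, false), (0, 0, false), (43, 1, true), (0, 0, false), (58, 8, false), (0, 0, false),
  (3, 0, false), (63, 2, false), (44, 4, false), (0, 0, false), (22, 0, false), (0, 0, false), (52, 0, false), (0, 0, false),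
  (13, 6, false), (68, 6, false), (48, 8, false), (0, 0, false), (40, 3, true), (0, 0, false), (55, 1, true), (0, 0, false),
  (10, 2, false), (66, 4, false), (46, 0, false), (0, 0, false), (31, 0, false), (0, 0, false), (53, 5, true), (0, 0, false),
  (19, 0, false), (69, 8, true), (50, 4, false), (0, 0, false), (42, 8, false), (0, 0, false), (57, 6, false), (0, 0, false),
  (6, 0, false), (64, 3, true), (45, 2, false), (0, 0, false), (26, 0, false), (0, 0, false), (52, 7, true), (0, 0, false),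
  (16, 0, false), (69, 2, false), (49, 6, false), (0, 0, false), (41, 1, true), (0, 0, false), (56, 8, false), (0, 0, false),
  (12, 6, false), (67, 0, true), (46, 7, true), (0, 0, false), (39, 5, true), (0, 0, false), (54, 3, true), (0, 0, false),
  (20, 0, true), (71, 1, true), (51, 2, false), (0, 0, false), (43, 6, false), (0, 0, false), (58, 4, false), (0, 0, false),
  (3, 1, true), (64, 0, false), (44, 3, true), (0, 0, false), (24, 0, false), (0, 0, false), (52, 8, false), (0, 0, false),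
  (13, 6, true), (68, 4, true), (48, 7, true), (0, 0, false), (41, 2, false), (0, 0, false), (56, 0, false), (0, 0, false),
  (11, 2, false), (67, 2, false), (46, 8, false), (0, 0, false), (39, 6, false), (0, 0, false), (54, 4, false), (0, 0, false),
  (20, 0, false), (71, 4, false), (50, 3, true), (0, 0, false), (42, 7, true), (0, 0, false), (57, 5, true), (0, 0, false),
  (7, 0, false), (65, 1, true), (45, 1, true), (0, 0, false), (27, 6, false), (0, 0, false), (53, 6, false), (0, 0, false),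
  (17, 0, false), (69, 0, true), (49, 5, true), (0, 0, false), (42, 0, false), (0, 0, false), (56, 7, true), (0, 0, false),
  (12, 6, true), (67, 8, true), (48, 0, false), (0, 0, false), (40, 4, false), (0, 0, false), (55, 2, false), (0, 0, false),
  (21, 0, false), (71, 9, true), (51, 1, true), (0, 0, false), (43, 5, true), (0, 0, false), (58, 3, true), (0, 0, false),
  (1, 0, false), (63, 0, false), (44, 2, false), (0, 0, false), (21, 6, false), (0, 0, false), (51, 7, true), (0, 0, false),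
  (13, 4, false), (68, 4, false), (48, 6, false), (0, 0, false), (40, 1, true), (0, 0, false), (55, 8, false), (0, 0, false),
  (10, 0, false), (66, 2, false), (45, 7, true), (0, 0, false), (30, 0, false), (0, 0, false), (53, 3, true), (0, 0, false),
  (18, 2, false), (69, 6, true), (50, 2, false), (0, 0, false), (42, 6, false), (0, 0, false), (57, 4, false), (0, 0, false),
  (5, 0, false), (64, 1, true), (45, 0, false), (0, 0, false), (25, 2, false), (0, 0, false), (52, 5, true), (0, 0, false),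
  (15, 0, false), (69, 0, false), (49, 4, false), (0, 0, false), (41, 8, false), (0, 0, false), (56, 6, false), (0, 0, false),
  (12, 4, false), (67, 8, false), (46, 5, true), (0, 0, false), (39, 3, true), (0, 0, false), (54, 1, true), (0, 0, false),
  (20, 6, false), (71, 10, false), (51, 0, false), (0, 0, false), (43, 4, false), (0, 0, false), (58, 2, false), (0, 0, false),
  (3, 6, false), (63, 8, false), (44, 1, true), (0, 0, false), (23, 2, false), (0, 0, false), (52, 6, false), (0, 0, false),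
  (13, 4, true), (68, 2, true), (48, 5, true), (0, 0, false), (41, 0, false), (0, 0, false), (55, 7, true), (0, 0, false),
  (11, 0, false), (67, 0, false), (46, 6, false), (0, 0, false), (39, 4, false), (0, 0, false), (54, 2, false), (0, 0, false),
  (19, 6, false), (71, 2, false), (50, 1, true), (0, 0, false), (42, 5, true), (0, 0, false), (57, 3, true), (0, 0, false),
  (6, 2, true), (65, 4, false), (45, 8, false), (0, 0, false), (27, 4, false), (0, 0, false), (53, 4, false), (0, 0, false),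
  (16, 6, false), (69, 8, false), (49, 3, true), (0, 0, false), (41, 7, true), (0, 0, false), (56, 5, true), (0, 0, false),
  (12, 4, true), (67, 6, true), (47, 1, true), (0, 0, false), (40, 2, false), (0, 0, false), (55, 0, false), (0, 0, false),
  (20, 6, true), (71, 7, true), (51, 8, false), (0, 0, false), (43, 3, true), (0, 0, false), (58, 1, true), (0, 0, false),
  (3, 2, false), (63, 4, false), (44, 6, false), (0, 0, false), (22, 2, false), (0, 0, false), (52, 2, false), (0, 0, false),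
  (13, 0, true), (68, 8, false), (48, 1, true), (0, 0, false), (40, 5, true), (0, 0, false), (55, 3, true), (0, 0, false)]
def hints_1 : List (ℕ × ℕ × Bool) := [
  (10, 4, false), (66, 1, true), (46, 2, false), (0, 0, false), (39, 0, false), (0, 0, false), (53, 7, true), (0, 0, false),
  (19, 2, false), (70, 0, false), (50, 6, false), (0, 0, false), (42, 1, true), (0, 0, false), (57, 8, false), (0, 0, false),
  (6, 2, false), (65, 0, false), (45, 4, false), (0, 0, false), (27, 0, false), (0, 0, false), (53, 0, false), (0, 0, false),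
  (16, 2, false), (69, 4, false), (49, 8, false), (0, 0, false), (41, 3, true), (0, 0, false), (56, 1, true), (0, 0, false),
  (12, 0, true), (67, 2, true), (47, 0, false), (0, 0, false), (39, 7, true), (0, 0, false), (54, 5, true), (0, 0, false),
  (20, 2, true), (71, 3, true), (51, 4, false), (0, 0, false), (43, 8, false), (0, 0, false), (58, 6, false), (0, 0, false),
  (3, 3, true), (64, 2, false), (44, 5, true), (0, 0, false), (24, 2, false), (0, 0, false), (52, 1, true), (0, 0, false),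
  (14, 0, false), (68, 6, true), (49, 0, false), (0, 0, false), (41, 4, false), (0, 0, false), (56, 2, false), (0, 0, false),
  (12, 0, false), (67, 4, false), (46, 1, true), (0, 0, false), (39, 8, false), (0, 0, false), (54, 6, false), (0, 0, false),
  (20, 2, false), (71, 6, false), (50, 5, true), (0, 0, false), (43, 0, false), (0, 0, false), (57, 7, true), (0, 0, false),
  (8, 0, false), (65, 3, true), (45, 3, true), (0, 0, false), (28, 0, false), (0, 0, false), (53, 8, false), (0, 0, false),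
  (17, 2, false), (69, 2, true), (49, 7, true), (0, 0, false), (42, 2, false), (0, 0, false), (57, 0, false), (0, 0, false),
  (13, 0, false), (68, 0, false), (48, 2, false), (0, 0, false), (40, 6, false), (0, 0, false), (55, 4, false), (0, 0, false),
  (21, 2, false), (0, 0, false), (51, 3, true), (0, 0, false), (43, 7, true), (0, 0, false), (58, 5, true), (0, 0, false),
  (0, 1, false), (58, 8, true), (44, 1, false), (0, 0, false), (21, 5, false), (0, 0, false), (51, 6, true), (0, 0, false),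
  (13, 3, false), (68, 3, false), (48, 5, false), (0, 0, false), (40, 0, true), (0, 0, false), (55, 7, false), (0, 0, false),
  (9, 1, false), (66, 1, false), (45, 6, true), (0, 0, false), (29, 1, false), (0, 0, false), (53, 2, true), (0, 0, false),
  (18, 1, false), (69, 5, true), (50, 1, false), (0, 0, false), (42, 5, false), (0, 0, false), (57, 3, false), (0, 0, false),
  (3, 6, true), (64, 0, true), (44, 8, true), (0, 0, false), (25, 1, false), (0, 0, false), (52, 4, true), (0, 0, false),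
  (14, 3, false), (68, 9, true), (49, 3, false), (0, 0, false), (41, 7, false), (0, 0, false), (56, 5, false), (0, 0, false),
  (12, 3, false), (67, 7, false), (46, 4, true), (0, 0, false), (39, 2, true), (0, 0, false), (54, 0, true), (0, 0, false),
  (20, 5, false), (71, 9, false), (50, 8, true), (0, 0, false), (43, 3, false), (0, 0, false), (58, 1, false), (0, 0, false),
  (3, 5, false), (63, 7, false), (44, 0, true), (0, 0, false), (23, 1, false), (0, 0, false), (52, 5, false), (0, 0, false),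
  (13, 3, true), (68, 1, true), (48, 4, true), (0, 0, false), (40, 8, true), (0, 0, false), (55, 6, true), (0, 0, false),
  (10, 7, false), (66, 4, true), (46, 5, false), (0, 0, false), (39, 3, false), (0, 0, false), (54, 1, false), (0, 0, false),
  (19, 5, false), (71, 1, false), (50, 0, true), (0, 0, false), (42, 4, true), (0, 0, false), (57, 2, true), (0, 0, false),
  (6, 1, true), (65, 3, false), (45, 7, false), (0, 0, false), (27, 3, false), (0, 0, false), (53, 3, false), (0, 0, false),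
  (16, 5, false), (69, 7, false), (49, 2, true), (0, 0, false), (41, 6, true), (0, 0, false), (56, 4, true), (0, 0, false),
  (12, 3, true), (67, 5, true), (47, 0, true), (0, 0, false), (40, 1, false), (0, 0, false), (54, 8, true), (0, 0, false),
  (20, 5, true), (71, 6, true), (51, 7, false), (0, 0, false), (43, 2, true), (0, 0, false), (58, 0, true), (0, 0, false),
  (3, 1, false), (63, 3, false), (44, 5, false), (0, 0, false), (22, 1, false), (0, 0, false), (52, 1, false), (0, 0, false),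
  (13, 7, false), (68, 7, false), (48, 0, true), (0, 0, false), (40, 4, true), (0, 0, false), (55, 2, true), (0, 0, false),
  (10, 3, false), (66, 0, true), (46, 1, false), (0, 0, false), (31, 1, false), (0, 0, false), (53, 6, true), (0, 0, false),
  (19, 1, false), (69, 9, true), (50, 5, false), (0, 0, false), (42, 0, true), (0, 0, false), (57, 7, false), (0, 0, false),
  (6, 1, false), (64, 4, true), (45, 3, false), (0, 0, false), (26, 1, false), (0, 0, false), (52, 8, true), (0, 0, false),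
  (16, 1, false), (69, 3, false), (49, 7, false), (0, 0, false), (41, 2, true), (0, 0, false), (56, 0, true), (0, 0, false),
  (12, 7, false), (67, 1, true), (46, 8, true), (0, 0, false), (39, 6, true), (0, 0, false), (54, 4, true), (0, 0, false),
  (20, 1, true), (71, 2, true), (51, 3, false), (0, 0, false), (43, 7, false), (0, 0, false), (58, 5, false), (0, 0, false),
  (3, 2, true), (64, 1, false), (44, 4, true), (0, 0, false), (24, 1, false), (0, 0, false), (52, 0, true), (0, 0, false),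
  (13, 7, true), (68, 5, true), (48, 8, true), (0, 0, false), (41, 3, false), (0, 0, false), (56, 1, false), (0, 0, false),
  (11, 3, false), (67, 3, false), (46, 0, true), (0, 0, false), (39, 7, false), (0, 0, false), (54, 5, false), (0, 0, false),
  (20, 1, false), (71, 5, false), (50, 4, true), (0, 0, false), (42, 8, true), (0, 0, false), (57, 6, true), (0, 0, false),
  (7, 1, false), (65, 2, true), (45, 2, true), (0, 0, false), (27, 7, false), (0, 0, false), (53, 7, false), (0, 0, false),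
  (17, 1, false), (69, 1, true), (49, 6, true), (0, 0, false), (42, 1, false), (0, 0, false), (56, 8, true), (0, 0, false),
  (12, 7, true), (67, 9, true), (48, 1, false), (0, 0, false), (40, 5, false), (0, 0, false), (55, 3, false), (0, 0, false),
  (21, 1, false), (71, 10, true), (51, 2, true), (0, 0, false), (43, 6, true), (0, 0, false), (58, 4, true), (0, 0, false),
  (1, 1, false), (63, 1, false), (44, 3, false), (0, 0, false), (21, 7, false), (0, 0, false), (51, 8, true), (0, 0, false),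
  (13, 5, false), (68, 5, false), (48, 7, false), (0, 0, false), (40, 2, true), (0, 0, false), (55, 0, true), (0, 0, false),
  (10, 1, false), (66, 3, false), (45, 8, true), (0, 0, false), (30, 1, false), (0, 0, false), (53, 4, true), (0, 0, false),
  (18, 3, false), (69, 7, true), (50, 3, false), (0, 0, false), (42, 7, false), (0, 0, false), (57, 5, false), (0, 0, false)]
def hints_2 : List (ℕ × ℕ × Bool) := [
  (5, 1, false), (64, 2, true), (45, 1, false), (0, 0, false), (25, 3, false), (0, 0, false), (52, 6, true), (0, 0, false),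
  (15, 1, false), (69, 1, false), (49, 5, false), (0, 0, false), (41, 0, true), (0, 0, false), (56, 7, false), (0, 0, false),
  (12, 5, false), (67, 9, false), (46, 6, true), (0, 0, false), (39, 4, true), (0, 0, false), (54, 2, true), (0, 0, false),
  (20, 7, false), (71, 0, true), (51, 1, false), (0, 0, false), (43, 5, false), (0, 0, false), (58, 3, false), (0, 0, false),
  (3, 0, true), (63, 9, false), (44, 2, true), (0, 0, false), (23, 3, false), (0, 0, false), (52, 7, false), (0, 0, false),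
  (13, 5, true), (68, 3, true), (48, 6, true), (0, 0, false), (41, 1, false), (0, 0, false), (55, 8, true), (0, 0, false),
  (11, 1, false), (67, 1, false), (46, 7, false), (0, 0, false), (39, 5, false), (0, 0, false), (54, 3, false), (0, 0, false),
  (19, 7, false), (71, 3, false), (50, 2, true), (0, 0, false), (42, 6, true), (0, 0, false), (57, 4, true), (0, 0, false),
  (6, 3, true), (65, 0, true), (45, 0, true), (0, 0, false), (27, 5, false), (0, 0, false), (53, 5, false), (0, 0, false),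
  (16, 7, false), (69, 9, false), (49, 4, true), (0, 0, false), (41, 8, true), (0, 0, false), (56, 6, true), (0, 0, false),
  (12, 5, true), (67, 7, true), (47, 2, true), (0, 0, false), (40, 3, false), (0, 0, false), (55, 1, false), (0, 0, false),
  (20, 7, true), (71, 8, true), (51, 0, true), (0, 0, false), (43, 4, true), (0, 0, false), (58, 2, true), (0, 0, false),
  (3, 3, false), (63, 5, false), (44, 7, false), (0, 0, false), (22, 3, false), (0, 0, false), (52, 3, false), (0, 0, false),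
  (13, 1, true), (68, 9, false), (48, 2, true), (0, 0, false), (40, 6, true), (0, 0, false), (55, 4, true), (0, 0, false),
  (10, 5, false), (66, 2, true), (46, 3, false), (0, 0, false), (39, 1, false), (0, 0, false), (53, 8, true), (0, 0, false),
  (19, 3, false), (70, 1, false), (50, 7, false), (0, 0, false), (42, 2, true), (0, 0, false), (57, 0, true), (0, 0, false),
  (6, 3, false), (65, 1, false), (45, 5, false), (0, 0, false), (27, 1, false), (0, 0, false), (53, 1, false), (0, 0, false),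
  (16, 3, false), (69, 5, false), (49, 0, true), (0, 0, false), (41, 4, true), (0, 0, false), (56, 2, true), (0, 0, false),
  (12, 1, true), (67, 3, true), (47, 1, false), (0, 0, false), (39, 8, true), (0, 0, false), (54, 6, true), (0, 0, false),
  (20, 3, true), (71, 4, true), (51, 5, false), (0, 0, false), (43, 0, true), (0, 0, false), (58, 7, false), (0, 0, false),
  (3, 4, true), (64, 3, false), (44, 6, true), (0, 0, false), (24, 3, false), (0, 0, false), (52, 2, true), (0, 0, false),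
  (14, 1, false), (68, 7, true), (49, 1, false), (0, 0, false), (41, 5, false), (0, 0, false), (56, 3, false), (0, 0, false),
  (12, 1, false), (67, 5, false), (46, 2, true), (0, 0, false), (39, 0, true), (0, 0, false), (54, 7, false), (0, 0, false),
  (20, 3, false), (71, 7, false), (50, 6, true), (0, 0, false), (43, 1, false), (0, 0, false), (57, 8, true), (0, 0, false),
  (8, 1, false), (65, 4, true), (45, 4, true), (0, 0, false), (28, 1, false), (0, 0, false), (53, 0, true), (0, 0, false),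
  (17, 3, false), (69, 3, true), (49, 8, true), (0, 0, false), (42, 3, false), (0, 0, false), (57, 1, false), (0, 0, false),
  (13, 1, false), (68, 1, false), (48, 3, false), (0, 0, false), (40, 7, false), (0, 0, false), (55, 5, false), (0, 0, false),
  (21, 3, false), (0, 0, false), (51, 4, true), (0, 0, false), (43, 8, true), (0, 0, false), (58, 6, true), (0, 0, false)]
def hints : List (ℕ × ℕ × Bool) :=
  (hints_0 ++ (hints_1 ++ hints_2))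

/-- subgroup words -/
def sw : List (List ℕ) := [[0], [1], [2], [3], [5]]

def subs : List (List ℕ) := [[0], [1], [2], [3], [5]]

/-- parameters -/
def P : Params := ⟨tab, 7, rots, subs⟩

def tree_0 : List ℕ := [
  4, 6, 14, 7, 8, 29, 12, 33,
  19, 26, 47, 40, 51, 53, 81, 58,
  60, 122, 65, 86, 72, 79, 76, 153,
  83, 160, 146, 90, 161, 164, 199, 168,
  95, 105]
def tree : List ℕ :=
  tree_0

def ph0_0 : List ℕ := [
  2048, 2049, 2050, 2051, 2052, 4136, 8343, 16753,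
  4607, 12861, 12359, 12355, 41155, 37056, 41175, 8633,
  86646, 78376, 16639, 4381, 16698, 20885, 28779, 33132,
  28726, 20658, 24754, 73962, 57579, 66171, 45115, 49211,
  82550, 24601, 45251, 20782, 24921, 16975, 24649, 32888,
  24716, 49188, 12368, 12450, 45288, 106989, 90747, 82540,
  81944, 77845, 115181, 94357, 115126, 74239, 53502, 65777,
  106899, 102789, 118874, 123315, 90548, 94661, 90136, 86531,
  110678, 102421, 122951, 127041, 57594, 69731, 135329, 65807,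
  57629, 53592, 53274, 69917, 135453]

def ph1_0 : List Aux := [
  .node 7 6, .derive 35 [.bwd 0, .edge 2, .edge 1, .edge 3, .edge 1, .edge 3, .edge 2, .fwd 0] [1] (.rel 493), .node 8 6, .derive 36 [.bwd 0, .edge 2, .edge 1, .edge 3, .edge 1, .edge 3, .edge 2, .fwd 0] [1] (.rel 493), .node 9 4, .derive 37 [.bwd 0, .edge 5, .edge 0, .edge 1, .edge 0, .edge 5, .fwd 0] [3] (.rel 40), .derive 18 [.edge 2, .edge 4, .edge 0, .edge 2, .edge 1, .edge 2, .edge 0, .fwd 1] [6] (.rel 285), .node 9 6,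
  .derive 38 [.bwd 0, .edge 0, .edge 3, .edge 1, .edge 6, .edge 1, .edge 3] [0] (.rel 91), .node 10 4, .derive 39 [.bwd 0, .edge 5, .edge 0, .edge 1, .edge 0, .edge 5, .fwd 0] [3] (.rel 40), .derive 39 [.bwd 1, .edge 1, .edge 4, .edge 2, .edge 4, .edge 1, .fwd 6] [2] (.rel 139), .derive 39 [.bwd 2, .edge 1, .edge 4, .fwd 5, .bwd 7, .edge 1, .edge 4] [6] (.rel 143), .node 14 0, .derive 40 [.bwd 0, .edge 4, .edge 2, .edge 0, .edge 2, .edge 4, .edge 2, .fwd 0] [4] (.rel 330), .derive 40 [.bwd 1, .edge 4, .edge 5, .edge 1, .edge 5, .edge 3, .edge 4, .edge 0] [3] (.rel 369),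
  .node 14 1, .node 14 5, .derive 42 [.bwd 0, .edge 4, .edge 5, .edge 4, .edge 5, .edge 4, .edge 5, .edge 4, .fwd 0] [4] (.rel 615), .node 15 1, .node 15 5, .node 17 0, .derive 45 [.bwd 0, .edge 4, .edge 2, .edge 0, .edge 2, .edge 4, .edge 2, .fwd 0] [4] (.rel 330), .node 17 1,
  .node 17 5, .derive 47 [.bwd 0, .edge 3, .edge 4, .edge 0, .edge 3, .edge 0, .edge 4, .fwd 4] [1] (.rel 364), .derive 43 [.bwd 6, .fwd 5, .bwd 0, .bwd 1, .edge 4, .edge 3, .edge 4, .fwd 9] [0] (.rel 229), .node 18 0, .derive 48 [.bwd 0, .edge 4, .edge 2, .edge 0, .edge 2, .edge 4, .edge 2, .edge 0] [4] (.rel 330), .derive 48 [.bwd 1, .edge 4, .edge 5, .edge 1, .edge 5, .edge 3, .edge 4, .fwd 7] [3] (.rel 369), .node 18 1, .node 18 5,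
  .derive 50 [.bwd 0, .fwd 4, .fwd 3, .bwd 16, .bwd 17, .bwd 18, .fwd 14] [1] (.rel 107), .node 19 4, .node 19 6, .derive 52 [.bwd 0, .edge 2, .fwd 27] [2] (.rel 3), .derive 52 [.bwd 1, .edge 2, .edge 5, .edge 3, .edge 5, .edge 6, .edge 2] [1] (.rel 116), .derive 32 [.edge 3, .edge 6, .edge 1, .edge 3, .fwd 2, .fwd 0, .edge 0] [6] (.rel 71), .node 21 4, .derive 53 [.bwd 0, .edge 2, .fwd 29, .fwd 27, .bwd 34, .edge 2, .fwd 5] [2] (.rel 161),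
  .node 22 4, .derive 53 [.fwd 1, .bwd 7, .edge 0, .edge 2, .edge 1, .edge 2, .edge 0, .fwd 0] [6] (.rel 285), .node 23 4, .node 24 3, .derive 56 [.bwd 0, .bwd 7, .fwd 8, .fwd 35, .edge 3, .edge 1, .edge 2] [0] (.rel 24), .node 24 4, .node 25 4, .derive 58 [.bwd 0, .edge 6, .edge 4, .bwd 34, .bwd 37, .edge 6, .fwd 4] [6] (.rel 164),
  .derive 58 [.bwd 1, .edge 6, .edge 1, .edge 3, .edge 0, .fwd 38, .fwd 35, .edge 3, .fwd 31] [3] (.rel 609), .derive 58 [.bwd 2, .edge 1, .fwd 2, .fwd 0, .bwd 32, .edge 2, .fwd 35, .bwd 34] [1] (.rel 303), .derive 30 [.edge 0, .fwd 3, .fwd 0, .bwd 35, .bwd 0, .bwd 3, .edge 3, .edge 1] [2] (.rel 309), .derive 29 [.edge 1, .edge 6, .fwd 0, .edge 1, .edge 3, .edge 1, .edge 3, .edge 6] [2] (.rel 438), .node 26 0, .derive 59 [.bwd 0, .edge 2, .edge 0, .bwd 2, .edge 0, .edge 2, .fwd 0] [2] (.rel 18), .derive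 59 [.bwd 1, .edge 6, .edge 3, .edge 6, .edge 1, .edge 3, .bwd 16] [1] (.rel 77), .derive 59 [.bwd 2, .edge 6, .edge 0, .edge 3, .edge 1, .edge 6, .bwd 18] [3] (.rel 90),
  .derive 59 [.fwd 0, .bwd 21, .edge 1, .edge 3, .edge 6, .edge 1, .fwd 3] [6] (.rel 71), .node 26 3, .derive 60 [.bwd 0, .edge 1, .edge 3, .bwd 3, .fwd 2, .fwd 21, .fwd 14] [1] (.rel 31), .derive 60 [.bwd 1, .edge 2, .edge 3, .fwd 7, .edge 3, .edge 2, .edge 3] [2] (.rel 159), .node 26 4, .derive 61 [.bwd 0, .edge 6, .fwd 20, .bwd 19, .bwd 22, .edge 6, .fwd 15] [6] (.rel 164), .node 26 5, .node 27 4,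
  .derive 63 [.bwd 0, .edge 3, .bwd 4, .bwd 6, .fwd 11, .bwd 10, .bwd 11, .fwd 3] [2] (.rel 267), .node 28 4, .derive 64 [.bwd 0, .edge 2, .fwd 2, .fwd 1, .bwd 5, .edge 2, .fwd 19] [2] (.rel 161), .derive 64 [.bwd 1, .edge 6, .edge 1, .edge 3, .edge 0, .fwd 62, .bwd 60, .edge 3, .fwd 43] [3] (.rel 609), .derive 64 [.bwd 2, .edge 1, .fwd 2, .fwd 0, .bwd 44, .edge 2, .fwd 46, .bwd 45] [1] (.rel 303), .node 31 4, .node 33 0, .derive 66 [.bwd 0, .edge 4, .edge 0, .edge 2, .edge 0, .edge 4, .fwd 49] [2] (.rel 80),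
  .derive 61 [.fwd 10, .bwd 26, .edge 2, .fwd 29, .bwd 24, .bwd 5, .fwd 3, .bwd 0] [1] (.rel 397), .node 33 1, .derive 67 [.bwd 0, .edge 4, .edge 3, .edge 1, .edge 2, .edge 0, .edge 4, .fwd 50] [4] (.rel 304), .derive 67 [.bwd 1, .edge 6, .edge 4, .edge 2, .edge 4, .edge 6, .edge 2, .fwd 58] [2] (.rel 405), .derive 67 [.fwd 0, .bwd 27, .fwd 26, .bwd 62, .fwd 59, .bwd 0, .bwd 2, .fwd 5, .bwd 3] [3] (.rel 521), .derive 60 [.bwd 19, .fwd 16, .bwd 0, .fwd 2, .bwd 9, .bwd 11, .edge 3, .fwd 7] [] (.rel 162), .derive 65 [.bwd 0] [] (.free), .derive 60 [.bwd 0, .bwd 9] [4] (.free),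
  .derive 34 [.bwd 64, .bwd 30, .fwd 31, .bwd 63, .edge 6, .edge 2, .fwd 63, .bwd 4] [6] (.rel 471), .node 33 5, .node 34 1, .derive 69 [.bwd 0, .bwd 67, .bwd 33, .fwd 34, .bwd 66, .edge 3, .fwd 63] [3] (.rel 30), .derive 69 [.bwd 1, .edge 0, .fwd 64, .fwd 57, .bwd 67, .fwd 70, .bwd 34] [0] (.rel 33), .derive 69 [.bwd 2, .edge 0, .bwd 72, .bwd 74, .fwd 72, .fwd 65, .bwd 1] [6] (.rel 76), .derive 69 [.bwd 3, .fwd 5, .fwd 10, .bwd 69, .edge 3, .fwd 66, .bwd 2, .bwd 0] [2] (.rel 438), .derive 69 [.fwd 0, .fwd 1, .bwd 4, .bwd 71, .bwd 73, .edge 4, .edge 1, .fwd 86, .bwd 85] [4] (.rel 589),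
  .node 34 2, .derive 70 [.bwd 0, .fwd 8, .fwd 13] [6] (.rel 2), .derive 70 [.bwd 1, .bwd 74, .bwd 76, .edge 4, .edge 2, .edge 4, .edge 2, .fwd 19] [3] (.rel 344), .node 34 5, .derive 71 [.bwd 0, .edge 0, .fwd 71] [0] (.rel 1), .derive 71 [.bwd 1, .bwd 77, .bwd 43, .fwd 44, .bwd 76, .fwd 75] [3] (.rel 13), .node 35 0, .derive 72 [.bwd 0, .bwd 94, .edge 0, .edge 3, .edge 1, .fwd 94, .bwd 93] [3] (.rel 90),
  .derive 72 [.bwd 1, .bwd 8, .bwd 9, .fwd 11, .bwd 29, .bwd 30, .edge 2, .bwd 51] [4] (.rel 330), .derive 72 [.fwd 0, .bwd 53, .bwd 60, .fwd 61, .fwd 88, .bwd 17, .fwd 38, .bwd 0] [1] (.rel 305), .node 36 0, .derive 73 [.bwd 0, .bwd 96, .edge 0, .edge 3, .edge 1, .fwd 96, .bwd 95] [3] (.rel 90)]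
def ph1_1 : List Aux := [
  .derive 72 [.fwd 4, .bwd 99, .edge 1, .edge 3, .fwd 97, .fwd 96, .fwd 1] [6] (.rel 71), .derive 73 [.fwd 1, .fwd 2, .bwd 0, .bwd 6, .bwd 5, .bwd 3, .fwd 0] [1] (.rel 89), .derive 59 [.fwd 45, .fwd 46, .fwd 65, .fwd 58, .bwd 5, .fwd 1, .fwd 0, .fwd 2, .fwd 3] [4] (.rel 605), .derive 73 [.bwd 0, .bwd 50, .fwd 42, .bwd 38, .bwd 39, .bwd 58, .bwd 6] [2] (.rel 99), .node 36 4, .derive 74 [.bwd 0, .fwd 6, .fwd 1, .bwd 10, .bwd 17, .fwd 20, .bwd 38] [0] (.rel 81), .derive 74 [.bwd 1, .bwd 103, .edge 4, .fwd 82, .bwd 31, .bwd 25, .bwd 77] [1] (.rel 141), .derive 49 [.bwd 76, .edge 2, .edge 0, .bwd 78, .bwd 0, .bwd 2, .bwd 103, .fwd 2] [3] (.rel 307),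
  .node 37 1, .node 37 5, .derive 76 [.bwd 0, .bwd 104, .bwd 105, .edge 0, .edge 3, .edge 0, .fwd 105, .fwd 0] [1] (.rel 364), .derive 75 [.bwd 2, .fwd 1, .bwd 0, .bwd 1, .bwd 106, .edge 3, .fwd 106, .fwd 2] [0] (.rel 229), .node 38 4, .derive 77 [.bwd 0, .bwd 105, .fwd 108, .bwd 106, .edge 4, .edge 6, .fwd 47] [6] (.rel 164), .node 39 1, .derive 78 [.bwd 0, .bwd 104, .fwd 102, .fwd 95, .fwd 88, .bwd 25, .fwd 24] [6] (.rel 73),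
  .node 40 2, .derive 79 [.bwd 0, .bwd 102, .bwd 103, .edge 4, .edge 2, .edge 4, .fwd 46] [4] (.rel 98), .derive 75 [.bwd 9, .bwd 106, .fwd 3, .fwd 2, .bwd 0, .bwd 1, .bwd 103, .fwd 1] [6] (.rel 421), .node 40 5, .derive 80 [.bwd 0, .bwd 106, .fwd 102] [0] (.rel 1), .derive 80 [.bwd 1, .fwd 105, .fwd 38, .fwd 37, .bwd 101, .fwd 100] [3] (.rel 13), .node 41 4, .derive 81 [.bwd 0, .bwd 106, .edge 4, .edge 2, .edge 4, .fwd 49, .fwd 48] [2] (.rel 139),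
  .derive 81 [.bwd 1, .bwd 107, .edge 4, .fwd 123, .bwd 36, .bwd 41, .bwd 95] [6] (.rel 143), .node 42 2, .node 44 4, .node 44 6, .node 45 5, .derive 85 [.bwd 0, .bwd 107, .fwd 104] [0] (.rel 1), .derive 85 [.bwd 1, .bwd 100, .bwd 23, .bwd 22, .bwd 99, .fwd 98] [3] (.rel 13), .derive 85 [.bwd 2, .bwd 109, .edge 4, .edge 3, .edge 4, .fwd 117, .fwd 11] [1] (.rel 107),
  .node 45 6, .derive 86 [.bwd 0, .bwd 110, .bwd 64, .bwd 67, .edge 6, .edge 4, .fwd 102] [4] (.rel 142), .node 46 6, .derive 87 [.bwd 0, .bwd 11, .fwd 10] [2] (.rel 3), .derive 87 [.bwd 1, .bwd 112, .edge 3, .fwd 129, .fwd 27, .bwd 24, .fwd 17] [3] (.rel 72), .node 47 2, .node 47 3, .derive 89 [.bwd 0, .fwd 113, .bwd 17, .bwd 7, .bwd 10, .bwd 109] [5] (.rel 14),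
  .derive 89 [.bwd 1, .bwd 115, .edge 3, .fwd 112, .fwd 110, .fwd 11, .fwd 9] [0] (.rel 93), .derive 82 [.bwd 15, .bwd 108, .bwd 0, .fwd 1, .bwd 5, .fwd 4, .bwd 24, .bwd 127, .fwd 123, .fwd 15] [1] (.rel 635), .node 47 4, .node 49 6, .derive 91 [.bwd 0, .bwd 10, .bwd 11, .bwd 121, .fwd 11, .fwd 10, .fwd 0] [4] (.rel 165), .node 50 4, .derive 92 [.bwd 0, .bwd 114, .edge 4, .edge 5, .edge 4, .edge 5, .edge 4, .fwd 114, .fwd 0] [5] (.rel 614), .node 50 6,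
  .node 59 5, .derive 94 [.bwd 0, .bwd 96, .fwd 86] [0] (.rel 1), .node 62 1, .derive 95 [.bwd 0, .bwd 1, .bwd 2, .fwd 48, .fwd 51, .fwd 46, .fwd 45] [5] (.rel 60), .node 66 5, .derive 96 [.bwd 0, .bwd 82, .fwd 71] [0] (.rel 1), .node 68 2, .derive 97 [.bwd 0, .bwd 1, .bwd 2, .fwd 83, .bwd 86, .fwd 88, .fwd 105, .bwd 141, .fwd 137, .fwd 29] [3] (.rel 630),
  .derive 97 [.fwd 0, .bwd 14, .bwd 30, .bwd 35, .fwd 34, .bwd 130, .fwd 18] [0] (.rel 24), .derive 90 [.bwd 14, .fwd 19, .bwd 0, .fwd 1, .bwd 31, .bwd 63, .fwd 64, .fwd 30] [2] (.rel 349), .derive 93 [.bwd 10, .bwd 126, .edge 3, .fwd 133, .fwd 15, .fwd 0, .bwd 31, .fwd 30] [1] (.rel 505), .derive 92 [.bwd 13, .fwd 11, .fwd 0, .bwd 31, .bwd 138, .edge 3, .fwd 141, .bwd 140, .fwd 33] [] (.rel 511), .derive 92 [.fwd 0] [] (.free), .derive 82 [.bwd 0, .bwd 15] [4] (.free), .derive 82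 [.bwd 1, .bwd 15, .fwd 1] [5] (.free), .derive 85 [.fwd 33, .fwd 24, .fwd 22, .bwd 1, .bwd 0, .fwd 21, .bwd 0, .bwd 7] [4] (.rel 367),
  .derive 95 [.fwd 12, .bwd 58, .fwd 57, .bwd 136, .fwd 132, .bwd 2, .bwd 8, .bwd 0] [] (.rel 41), .derive 95 [.fwd 0] [] (.free), .derive 85 [.bwd 0, .fwd 14] [5] (.free), .derive 45 [.fwd 38, .fwd 0] [] (.free), .derive 64 [.bwd 0] [] (.free), .derive 45 [.bwd 0, .bwd 55] [6] (.free), .derive 86 [.bwd 37, .fwd 0] [] (.free), .derive 86 [.fwd 0] [] (.free),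
  .derive 77 [.bwd 0, .fwd 38] [4] (.free), .derive 38 [.fwd 60, .fwd 0] [] (.free), .derive 49 [.bwd 0] [] (.free), .derive 38 [.bwd 0, .fwd 31] [6] (.free), .derive 9 [.fwd 168, .fwd 0] [] (.free), .derive 91 [.bwd 0] [] (.free), .derive 9 [.bwd 0, .bwd 33, .fwd 0] [4] (.free), .derive 37 [.bwd 174, .bwd 0] [] (.free),
  .derive 37 [.fwd 0] [] (.free), .derive 9 [.fwd 176, .fwd 0] [4] (.free), .commit 0]
def ph1 : List Aux :=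
  (ph1_0 ++ ph1_1)

def ph2_0 : List ℕ := [
  86094, 77962, 78109, 74013, 98708, 74125, 111181, 62054,
  139264, 57463, 98667, 98816, 107006, 107065, 57355, 114709,
  139326, 131195, 131180, 118943, 123120, 94547, 106864, 135665,
  111107, 135710, 127521, 29254, 32841, 65538, 123167, 127562,
  126990, 118886, 114820, 110724, 127112, 114911, 123513, 119417,
  103016, 82534, 65574, 90740, 53286]

/-- known edges at a check point -/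
def mask0 : ℕ := 0x480110200c8810204193122440820c042240a64e991234688912343859d0

theorem treeRun_ok : stIs (runList (treeStep P) tree ⟨1, 0, []⟩) 35 mask0 = true := by decide +kernel

def seg0 : List Phase := [.scans ph0_0, .aux ph1, .scans ph2_0]

theorem seg0_ok : stIs (runList (phaseStep P) seg0 ⟨35, mask0, []⟩) 98 (2 ^ (35 * P.k) - 1) = true := by decide +kernel

/-- the certificate -/
def phases : List Phase :=
  seg0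

theorem cert_ok : checkCert P 35 tree phases = true :=
  checkCert_of_run P treeRun_ok (run_last P seg0_ok)

theorem gen0_ok : genOK P 35 0 = true := by decide +kernel

theorem gen1_ok : genOK P 35 1 = true := by decide +kernel

theorem gen2_ok : genOK P 35 2 = true := by decide +kernel

theorem gen3_ok : genOK P 35 3 = true := by decide +kernel

theorem gen4_ok : genOK P 35 4 = true := by decide +kernel

theorem gen5_ok : genOK P 35 5 = true := by decide +kernel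

theorem gen6_ok : genOK P 35 6 = true := by decide +kernel

theorem tab_ok : tableOK P 35 = true := tableOK_of_gens P (by decide +kernel) (by decide +kernel) fun x hx =>
  match x, hx with
  | 0, _ => gen0_ok
  | 1, _ => gen1_ok
  | 2, _ => gen2_ok
  | 3, _ => gen3_ok
  | 4, _ => gen4_ok
  | 5, _ => gen5_ok
  | 6, _ => gen6_ok
  | _ + 7, hx => absurd (show _ + 7 < 7 from hx) (by omega)

theorem rots_ok : rotsOK base rots.entries hints = true := by decide +kernel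

end Cfsg.Agent.TransvUniq.M24.CertK
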