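import Cfsg.Agent.Lib.TransvUniq.M24.Perms
import Cfsg.Agent.Lib.TransvUniq.M24.CertData
import Cfsg.Agent.Lib.TransvUniq.M24.CertK
import Cfsg.Agent.Lib.TransvUniq.M24.CertJ
import Cfsg.Agent.Lib.TransvUniq.M24.CertI
import Cfsg.Agent.Lib.Compute.CosetSub

/-!
Eight involutions satisfying the relators generate a group isomorphic to `M₂₄`: the first seven generate at most
`35 * 9 * 1024` elements and the enumeration over them has 759 cosets.
-/

set_option autoImplicit false
set_option maxRecDepth 100000
set_option Elab.async false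

namespace Cfsg.Agent.TransvUniq.M24

open Cfsg.Agent.CosetCert

theorem relsI : relsIn CertI.base [0, 1, 2, 3] relators = true := by decide +kernel

theorem relsJ : relsIn CertJ.base [0, 1, 2, 3, 5] relators = true := by decide +kernel

theorem relsK : relsIn CertK.base [0, 1, 2, 3, 4, 5, 6] relators = true := by decide +kernel

theorem rots_all : rotsOK relators CertData.P.rots.entries CertData.hints = true := by decide +kernel

/-- The first seven generators generate at most `322560` elements. -/
theorem card_octad {Γ : Type*} [Group Γ] {E : ℕ → Γ} (hinv : ∀ x, E x * E x = 1)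
    (hrel : ∀ w ∈ relators, wprod E w = 1) :
    CardLe (Subgroup.closure (pick E [0, 1, 2, 3, 4, 5, 6] '' {x | x < 7})) 322560 := by
  have hI := cardLe_step hinv hrel (emb := [0, 1, 2, 3]) (emb' := []) relsI CertI.rots_ok
    (sw := CertI.sw) (by decide +kernel) (by decide +kernel) CertI.cert_ok CertI.tab_ok
    (cardLe_pick_nil E) (by decide +kernel)
  have hJ := cardLe_step hinv hrel (emb := [0, 1, 2, 3, 5]) (emb' := [0, 1, 2, 3]) relsJ CertJ.rots_ok
    (sw := CertJ.sw) (by decide +kernel) (by decide +kernel) CertJ.cert_ok CertJ.tab_ok hI (by decide +kernel)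
  exact cardLe_step hinv hrel (emb := [0, 1, 2, 3, 4, 5, 6]) (emb' := [0, 1, 2, 3, 5]) relsK CertK.rots_ok
    (sw := CertK.sw) (by decide +kernel) (by decide +kernel) CertK.cert_ok CertK.tab_ok hJ (by decide +kernel)

/-- **The copy.** Eight involutions satisfying the relators generate `M₂₄`, unless all are trivial. -/
theorem iso_closure {G : Type*} [Group G] (gen : ℕ → G) (hinv : ∀ x, gen x * gen x = 1)
    (hrel : ∀ w ∈ relators, wprod gen w = 1) (hne : ∃ x < 8, gen x ≠ 1) :
    Nonempty (↥(Subgroup.closure (gen '' {x | x < 8})) ≃* ↥Cfsg.M24) := by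
  set H := Subgroup.closure (gen '' {x | x < 8})
  let g' : ℕ → ↥H := fun x => if h : x < 8 then ⟨gen x, Subgroup.subset_closure ⟨x, h, rfl⟩⟩ else 1
  have hinv' : ∀ x, g' x * g' x = 1 := fun x => by
    by_cases h : x < 8
    · simp only [g', dif_pos h]; exact Subtype.ext (hinv x)
    · simp [g', h]
  have hlt : (relators.all fun w => w.all fun x => Nat.blt x 8) = true := by decide +kernel
  have hrel' : ∀ w ∈ relators, wprod g' w = 1 := fun w hw => by
    refine Subtype.ext ?_
    show H.subtype (wprod g' w) = 1
    rw [map_wprod, wprod_congr (g := gen) fun x hx => ?_, hrel w hw]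
    have h8 : x < 8 := Nat.blt_eq.mp (List.all_eq_true.1 (List.all_eq_true.1 hlt w hw) x hx)
    simp [g', h8]
  obtain ⟨x0, hx0, hne0⟩ := hne
  haveI : Nontrivial ↥H :=
    ⟨⟨g' x0, 1, fun e => hne0 (by simpa [g', hx0] using congrArg Subtype.val e)⟩⟩
  have hgen : Subgroup.closure (g' '' {x | x < CertData.P.k}) = ⊤ := by
    refine Subgroup.map_injective H.subtype_injective ?_
    rw [MonoidHom.map_closure, ← MonoidHom.range_eq_map, Subgroup.range_subtype, ← Set.image_comp]
    refine congrArg Subgroup.closure (Set.image_congr fun x hx => ?_)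
    have h8 : x < 8 := hx
    simp [g', h8]
  refine iso_of_cert g' hinv' hgen (es := genElts) rfl hrel' perms_ok (sw := CertData.sw) rots_all
    (by decide +kernel) (fun E hE hb => ?_) CertData.cert_ok CertData.tab_ok
  refine ⟨_, card_octad hE hb, fun w hw => ?_⟩
  simp only [CertData.sw, List.mem_cons, List.not_mem_nil, or_false] at hw
  have key : ∀ i < 7, wprod E [i] ∈ Subgroup.closure (pick E [0, 1, 2, 3, 4, 5, 6] '' {x | x < 7}) := by
    intro i hi
    refine Subgroup.subset_closure ⟨i, hi, ?_⟩
    interval_cases i <;> simp [pick, wprod]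
  rcases hw with rfl | rfl | rfl | rfl | rfl | rfl | rfl <;> exact key _ (by norm_num)

end Cfsg.Agent.TransvUniq.M24
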