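import Cfsg.Agent.Lib.TransvUniq.M24.LocalMain
import Cfsg.Agent.Lib.TransvUniq.M24.Enum
import Cfsg.Agent.Lib.TransvUniq.M24Fin.Branch

/-!
A group with fusion mask 115 or 121 is `M₂₄`.
-/

set_option autoImplicit false

namespace Cfsg.Agent.TransvUniq.M24

open Cfsg.Agent.HeUniq.Model Cfsg.Agent.HeUniq.Fus

variable {G : Type*} [Group G] [Finite G] {t : G} (F : Frame G t)

/-- A copy of `M₂₄` containing the centraliser of the involution. -/
theorem exists_m24 (hm : mask F = 115) :
    ∃ H : Subgroup G, (∀ g : G, g * t = t * g → g ∈ H) ∧ Nonempty (↥H ≃* ↥Cfsg.M24) := by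
  obtain ⟨gen, h, hinv, hrel, -, -, hrange, hcent⟩ := exists_local hm
  have hle : Subgroup.closure (gen '' {x | x < 7}) ≤ Subgroup.closure (gen '' {x | x < 8}) :=
    Subgroup.closure_mono (Set.image_mono fun x hx => Nat.lt_succ_of_lt hx)
  have htmem : ∀ g : G, g * t = t * g → g ∈ Subgroup.closure (gen '' {x | x < 7}) := fun g hg =>
    hrange ▸ hcent g hg
  refine ⟨_, fun g hg => hle (htmem g hg), iso_closure gen hinv hrel ?_⟩
  by_contra hne
  have hb : Subgroup.closure (gen '' {x | x < 7}) = ⊥ := by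
    rw [Subgroup.closure_eq_bot_iff]
    rintro _ ⟨x, hx, rfl⟩
    by_contra h1
    exact hne ⟨x, Nat.lt_succ_of_lt hx, h1⟩
  have := htmem t rfl
  rw [hb, Subgroup.mem_bot] at this
  exact t_ne_one F this

/-- **The Mathieu branch.** -/
theorem iso_m24 (hm : mask F = 115 ∨ mask F = 121) : Nonempty (G ≃* ↥Cfsg.M24) := by
  rcases hm with hm | hm
  · exact M24Fin.iso_of_copy F hm (exists_m24 F hm)
  · have hm' : mask F.twist = 115 := by
      refine Nat.eq_of_testBit_eq fun k => ?_
      rcases Nat.lt_or_ge k 8 with hk | hk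
      · rw [testBit_twist F hk, hm]
        interval_cases k <;> rfl
      · rw [Nat.testBit_lt_two_pow ((mask_lt F.twist).trans_le (Nat.pow_le_pow_right two_pos hk)),
          Nat.testBit_lt_two_pow (lt_of_lt_of_le (by norm_num : (115 : ℕ) < 256) (Nat.pow_le_pow_right two_pos hk))]
    exact M24Fin.iso_of_copy F.twist hm' (exists_m24 F.twist hm')

end Cfsg.Agent.TransvUniq.M24
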