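import Cfsg.Agent.Lib.TransvUniq.M24.LocalChk
import Cfsg.Agent.Lib.TransvUniq.M24.Sextet.Basic
import Cfsg.Agent.Lib.TransvUniq.L52.Parab
import Cfsg.Agent.Lib.Compute.CosetCert

/-!
Words in the letters of the M24 branch, read in the octad group by matrix codes and in the sextet group by affine
codes.
-/

set_option autoImplicit false
set_option maxRecDepth 20000

namespace Cfsg.Agent.TransvUniq.M24

open Cfsg.Agent.HeUniq.Model Cfsg.Agent.HeUniq.Local Cfsg.Agent.HeUniq.Fus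
open L52 (P1 CS fm)
open L5 (S5 M5 dec)
open CosetCert (wprod)

variable {G : Type*} [Group G] {t : G}

/-- The code of an element of the hyperplane stabiliser. -/
def OC (c : ℕ) : Prop := ∃ g : P1, ((g : S5) : M5) = dec c

open Classical in
/-- A hom of the hyperplane stabiliser, read on codes. -/
noncomputable def hh (h : P1 →* G) (c : ℕ) : G := if e : OC c then h e.choose else 1

theorem hh_eq (h : P1 →* G) {c : ℕ} {g : P1} (hg : ((g : S5) : M5) = dec c) : hh h c = h g := by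
  have e : OC c := ⟨g, hg⟩
  rw [hh, dif_pos e]
  exact congrArg h (Subtype.ext (Subtype.ext (e.choose_spec.trans hg.symm)))

theorem dec_mC (a b : ℕ) : dec (mC a b) = dec a * dec b := L5.dec_mul a b

theorem dec_one : dec oneC = 1 := L5.code_facts.1

theorem OC.mul {a b : ℕ} (ha : OC a) (hb : OC b) : OC (mC a b) := by
  obtain ⟨g, hg⟩ := ha
  obtain ⟨k, hk⟩ := hb
  exact ⟨g * k, by rw [Subgroup.coe_mul, Matrix.SpecialLinearGroup.coe_mul, hg, hk, dec_mC]⟩

theorem OC.one : OC oneC := ⟨1, by rw [OneMemClass.coe_one, Matrix.SpecialLinearGroup.coe_one, dec_one]⟩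

theorem hh_mul (h : P1 →* G) {a b : ℕ} (ha : OC a) (hb : OC b) : hh h (mC a b) = hh h a * hh h b := by
  obtain ⟨g, hg⟩ := ha
  obtain ⟨k, hk⟩ := hb
  rw [hh_eq h hg, hh_eq h hk, hh_eq h (g := g * k)
    (by rw [Subgroup.coe_mul, Matrix.SpecialLinearGroup.coe_mul, hg, hk, dec_mC]), map_mul]

theorem hh_one (h : P1 →* G) : hh h oneC = 1 := by
  rw [hh_eq h (g := 1) (by rw [OneMemClass.coe_one, Matrix.SpecialLinearGroup.coe_one, dec_one]), map_one]

/-- The hom restricts to the frame on the centraliser of the transvection. -/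
def OnFrame (F : Frame G t) (h : P1 →* G) : Prop :=
  ∀ (g : S5) (hg : g ∈ P1) (hC : g ∈ CS), h ⟨g, hg⟩ = fm F ⟨g, hC⟩

theorem oc_inC {c : ℕ} (hc : InC c) : OC c := by
  obtain ⟨g, hg, he⟩ := L52.exists_elem hc
  exact ⟨⟨g, L52.CS_le_P1 hg⟩, he⟩

theorem hh_inC {F : Frame G t} {h : P1 →* G} (hF : OnFrame F h) {c : ℕ} (hc : InC c) : hh h c = F.f c := by
  obtain ⟨g, hg, he⟩ := L52.exists_elem hc
  rw [hh_eq h (g := ⟨g, L52.CS_le_P1 hg⟩) he, hF g _ hg, L52.fm_code F hc he]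

theorem oct_spec {x : ℕ} (hx : x < 7) : OC (oC x) ∧ mC (oC x) (oC x) = oneC := by
  have h := List.all_eq_true.1 oct_ok x (List.mem_range.2 hx)
  simp only [octOK, Bool.and_eq_true, Nat.beq_eq, List.all_eq_true, List.mem_range, beq_iff_eq] at h
  obtain ⟨h1, h2⟩ := h
  obtain ⟨g, hg⟩ := L5.exists_of_mul (A := dec (oC x)) (B := dec (oC x)) (by rw [← dec_mC, h1, dec_one])
  refine ⟨⟨⟨g, L52.mem_P1.2 fun j => ?_⟩, hg⟩, h1⟩
  rw [hg]
  show HeUniq.Bit.sc ((oC x).testBit (5 * 4 + (j : ℕ))) = _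
  rw [show 5 * 4 + (j : ℕ) = 20 + (j : ℕ) from rfl, h2 j j.2]
  fin_cases j <;> rfl

theorem ev5_spec (h : P1 →* G) : ∀ w : List ℕ, (∀ x ∈ w, x < 7) →
    OC (ev5 w) ∧ wprod (fun x => hh h (oC x)) w = hh h (ev5 w)
  | [], _ => ⟨OC.one, (hh_one h).symm⟩
  | x :: w, hw => by
    obtain ⟨h1, h2⟩ := ev5_spec h w fun y hy => hw y (List.mem_cons_of_mem _ hy)
    have hx := (oct_spec (hw x List.mem_cons_self)).1
    refine ⟨hx.mul h1, ?_⟩
    show hh h (oC x) * wprod (fun x => hh h (oC x)) w = hh h (mC (oC x) (ev5 w))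
    rw [h2, hh_mul h hx h1]

theorem wprod_congr {a b : ℕ → G} {w : List ℕ} (h : ∀ x ∈ w, a x = b x) : wprod a w = wprod b w :=
  congrArg List.prod (List.map_congr_left h)

theorem inM_md' {k : ℕ} (hk : k < 138240) : InM (md k) := ⟨k, hk, rfl⟩

theorem inM_mul {a b : ℕ} (ha : InM a) (hb : InM b) : InM (mM a b) := by
  obtain ⟨i, hi, v, hv, rfl⟩ := inM_cases ha
  obtain ⟨j, hj, w, hw, rfl⟩ := inM_cases hb
  obtain ⟨k, hk⟩ := exists_prod i hi j hj
  rw [md_mul hi hj hk hv hw]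
  exact inM_md hk.1 (Nat.xor_lt_two_pow (n := 6) hv (app_lt _ _))

theorem one_facts : md 0 = oneM ∧ mM oneM oneM = oneM := by decide +kernel

theorem inM_one : InM oneM := ⟨0, by norm_num, one_facts.1⟩

variable {F : Frame G t} (S : Sextet.Sx F.twist)

theorem sx_one : S.g oneM = 1 := by
  have h := S.mul oneM oneM inM_one inM_one
  rw [one_facts.2] at h
  exact mul_eq_left.1 h.symm

theorem sI_lt : ∀ u < 64, ∀ x < 8, sI u x < 138240 := by decide +kernel

theorem ev7_spec {u : ℕ} (hu : u < 64) : ∀ w : List ℕ, (∀ x ∈ w, x < 8) →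
    InM (ev7 u w) ∧ wprod (fun x => S.g (md (sI u x))) w = S.g (ev7 u w)
  | [], _ => ⟨inM_one, (sx_one S).symm⟩
  | x :: w, hw => by
    obtain ⟨h1, h2⟩ := ev7_spec hu w fun y hy => hw y (List.mem_cons_of_mem _ hy)
    have hx := inM_md' (sI_lt u hu x (hw x List.mem_cons_self))
    refine ⟨inM_mul hx h1, ?_⟩
    show S.g (md (sI u x)) * wprod (fun x => S.g (md (sI u x))) w = S.g (mM (md (sI u x)) (ev7 u w))
    rw [h2, S.mul _ _ hx h1]

theorem pair_code {k c : ℕ}
    (h : ((List.range 48).any fun a => Nat.beq (qA a) (k / 64) &&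
      Nat.beq (theta (mC (eA (Nat.xor (k % 64) (Sextet.dS a))) (kA1 a))) c) = true) :
    InC c ∧ S.g (md k) = F.f c := by
  simp only [List.any_eq_true, List.mem_range, Bool.and_eq_true, Nat.beq_eq] at h
  obtain ⟨a, ha, hq, rfl⟩ := h
  have hv : k % 64 < 64 := Nat.mod_lt _ (by norm_num)
  have hS : Sextet.dS a < 64 := by simpa using allB_spec Sextet.dS_ok.2.1 a ha
  have hE : InC (eA (k % 64 ^^^ Sextet.dS a)) := elt_inC (Nat.xor_lt_two_pow (n := 6) hv hS)
  have hK := (lift_k F.twist ha).2.1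
  have hp := S.pair a ha (k % 64) hv
  rw [show 64 * qA a + k % 64 = k by rw [hq]; exact Nat.div_add_mod k 64] at hp
  refine ⟨(hE.mul hK).theta, ?_⟩
  rw [hp]
  exact (F.twist.mul hE hK).symm

end Cfsg.Agent.TransvUniq.M24
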