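import Mathlib.Data.Nat.Notation

/-!
Eight involutions generating a group of type M24 over the octad group and the sextet group: their matrix codes, their
affine codes, and relators.
-/

set_option autoImplicit false

namespace Cfsg.Agent.TransvUniq.M24

/-- The generators in the octad group: matrix codes of letters `0` to `6`. -/
def octCodes : List ℕ := [17764417, 17586259, 17044061, 17175121, 16978315, 17091201, 16916561]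

/-- The generators in the sextet group: numbers of affine codes, by letter. -/
def sexIdx : List (ℕ × ℕ) := [(0, 22), (1, 1443), (2, 1609), (3, 68), (5, 8557), (7, 65066)]

/-- The element of order three, as a word in the sextet group. -/
def fWord : List ℕ := [1, 3, 2, 0, 7, 2]

/-- The relator saying that letter 6 commutes with the element of order three. -/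
def commRel : List ℕ := [6, 1, 3, 2, 0, 7, 2, 6, 2, 7, 0, 2, 3, 1]

/-- The relators. -/
def relators : List (List ℕ) := [
  [0, 2, 0, 2, 0, 2, 0, 2],
  [0, 2, 1, 3, 0, 2, 1, 3],
  [1, 2, 1, 2, 1, 2, 1, 2],
  [1, 3, 1, 3, 1, 3, 1, 3],
  [0, 1, 2, 1, 0, 1, 3, 2, 3, 1],
  [0, 1, 2, 3, 1, 0, 1, 2, 3, 1],
  [0, 1, 3, 0, 3, 0, 1, 3, 0, 3],
  [0, 2, 3, 2, 3, 0, 2, 3, 2, 3],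
  [0, 3, 1, 6, 1, 3, 5, 0, 5, 6],
  [0, 3, 1, 6, 2, 4, 1, 6, 1, 4],
  [0, 3, 1, 6, 4, 3, 1, 3, 6, 4],
  [0, 3, 2, 3, 2, 4, 0, 4, 0, 4],
  [0, 3, 4, 3, 1, 3, 2, 4, 1, 6],
  [4, 5, 4, 5, 4, 5, 4, 5, 4, 5],
  [0, 1, 0, 1, 0, 4, 3, 4, 5, 1, 5],
  [0, 1, 2, 1, 2, 0, 5, 2, 3, 2, 5],
  [0, 1, 2, 1, 2, 1, 0, 4, 2, 6, 4],
  [0, 2, 5, 7, 5, 1, 2, 1, 5, 3, 7, 5],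
  [0, 2, 7, 0, 2, 7, 0, 3, 7, 3, 1, 3],
  [0, 3, 1, 2, 5, 2, 3, 1, 5, 1, 2, 5],
  [0, 3, 1, 3, 2, 1, 2, 7, 3, 0, 3, 7],
  [2, 5, 2, 7, 5, 7, 2, 5, 2, 7, 5, 7],
  [2, 5, 3, 7, 3, 5, 2, 5, 7, 3, 7, 5],
  [0, 1, 0, 1, 0, 2, 0, 5, 7, 0, 7, 5, 2],
  [6, 1, 3, 2, 0, 7, 2, 6, 2, 7, 0, 2, 3, 1],
  [0, 5, 0, 5],
  [2, 6, 2, 6],
  [1, 3, 1, 3, 5, 3, 5],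
  [0, 1, 0, 1, 0, 1, 0, 1],
  [0, 1, 0, 5, 4, 3, 4, 5],
  [0, 1, 3, 1, 0, 1, 3, 1],
  [0, 1, 5, 0, 4, 3, 4, 5],
  [0, 1, 6, 3, 1, 6, 3, 6],
  [0, 2, 0, 4, 0, 2, 0, 4],
  [0, 3, 0, 3, 0, 3, 0, 3],
  [0, 3, 1, 6, 1, 3, 0, 6],
  [0, 3, 5, 3, 0, 3, 5, 3],
  [0, 4, 2, 4, 0, 4, 2, 4],
  [0, 4, 3, 4, 0, 5, 1, 5],
  [1, 2, 6, 5, 3, 5, 2, 6],
  [1, 2, 6, 5, 3, 5, 6, 2],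
  [1, 3, 1, 5, 1, 3, 1, 5],
  [1, 4, 2, 4, 1, 4, 2, 4],
  [1, 4, 6, 4, 1, 4, 6, 4],
  [1, 5, 3, 5, 1, 5, 3, 5],
  [1, 6, 1, 6, 1, 6, 1, 6],
  [1, 6, 2, 5, 3, 5, 2, 6],
  [2, 3, 2, 3, 2, 3, 2, 3],
  [2, 4, 2, 4, 2, 4, 2, 4],
  [3, 4, 3, 4, 3, 4, 3, 4],
  [4, 6, 4, 6, 4, 6, 4, 6],
  [0, 1, 0, 1, 5, 1, 0, 1, 5],
  [0, 1, 3, 1, 0, 3, 5, 3, 5],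
  [0, 1, 3, 1, 5, 0, 3, 5, 3],
  [0, 1, 4, 3, 4, 5, 1, 5, 1],
  [0, 2, 0, 2, 4, 3, 2, 3, 4],
  [0, 2, 0, 3, 2, 3, 4, 2, 4],
  [0, 2, 1, 2, 0, 4, 2, 6, 4],
  [0, 2, 1, 3, 4, 1, 4, 1, 4],
  [0, 2, 4, 0, 2, 4, 0, 2, 4],
  [0, 2, 4, 0, 4, 0, 2, 4, 2],
  [0, 2, 4, 2, 4, 0, 3, 2, 3],
  [0, 3, 0, 4, 3, 5, 1, 5, 4],
  [0, 3, 1, 3, 1, 5, 3, 0, 5],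
  [1, 2, 1, 2, 6, 4, 2, 4, 6],
  [1, 2, 1, 6, 2, 4, 2, 4, 6],
  [1, 2, 6, 1, 2, 6, 3, 1, 3],
  [1, 2, 6, 1, 3, 1, 3, 2, 6],
  [1, 2, 6, 1, 3, 1, 3, 6, 2],
  [1, 2, 6, 1, 6, 2, 3, 1, 3],
  [1, 6, 4, 2, 4, 5, 3, 5, 6],
  [0, 1, 0, 1, 0, 3, 1, 0, 1, 3],
  [0, 1, 0, 1, 5, 4, 3, 4, 5, 1],
  [0, 1, 0, 2, 6, 0, 1, 0, 2, 6],
  [0, 1, 0, 2, 6, 0, 1, 0, 6, 2],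
  [0, 1, 0, 3, 0, 3, 1, 3, 0, 3],
  [0, 1, 0, 5, 3, 4, 3, 4, 3, 5],
  [0, 1, 2, 0, 4, 6, 4, 3, 2, 3],
  [0, 1, 2, 6, 1, 0, 3, 2, 6, 3],
  [0, 1, 2, 6, 1, 0, 3, 6, 2, 3],
  [0, 1, 2, 6, 2, 3, 1, 6, 3, 6],
  [0, 1, 3, 1, 0, 3, 1, 3, 1, 3],
  [0, 1, 3, 1, 0, 5, 1, 3, 1, 5],
  [0, 1, 3, 1, 4, 3, 0, 1, 4, 6],
  [0, 1, 3, 1, 6, 4, 1, 0, 3, 4],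
  [0, 1, 3, 4, 0, 3, 0, 3, 4, 1],
  [0, 1, 3, 4, 2, 4, 6, 3, 0, 6],
  [0, 1, 3, 4, 3, 0, 3, 0, 4, 1],
  [0, 1, 3, 6, 1, 0, 1, 3, 6, 1],
  [0, 1, 3, 6, 3, 1, 0, 1, 6, 1],
  [0, 1, 4, 0, 3, 6, 1, 4, 2, 3],
  [0, 1, 4, 1, 0, 3, 6, 4, 6, 3],
  [0, 1, 4, 2, 4, 1, 0, 4, 2, 4],
  [0, 1, 4, 6, 5, 1, 3, 0, 5, 4],
  [0, 1, 4, 6, 5, 1, 3, 5, 0, 4],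
  [0, 1, 6, 0, 4, 6, 4, 3, 6, 3],
  [0, 1, 6, 0, 6, 0, 3, 1, 3, 6],
  [0, 1, 6, 3, 0, 6, 3, 6, 1, 6],
  [0, 1, 6, 3, 1, 2, 6, 2, 3, 6],
  [0, 1, 6, 3, 1, 6, 3, 2, 6, 2],
  [0, 1, 6, 4, 3, 0, 1, 6, 4, 3],
  [0, 2, 0, 2, 0, 2, 0, 6, 2, 6],
  [0, 2, 0, 2, 0, 2, 5, 0, 5, 2],
  [0, 2, 0, 4, 0, 2, 5, 0, 5, 4],
  [0, 2, 0, 4, 0, 6, 2, 6, 0, 4],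
  [0, 2, 1, 3, 5, 0, 5, 2, 1, 3],
  [0, 2, 1, 4, 0, 2, 4, 0, 6, 4],
  [0, 2, 1, 6, 1, 2, 0, 3, 6, 3],
  [0, 2, 1, 6, 3, 0, 2, 1, 6, 3],
  [0, 2, 3, 2, 3, 0, 3, 2, 3, 2],
  [0, 2, 3, 2, 3, 4, 0, 4, 0, 4],
  [0, 2, 3, 4, 1, 4, 1, 2, 6, 4],
  [0, 2, 3, 4, 1, 4, 1, 6, 2, 4],
  [0, 2, 4, 0, 4, 3, 2, 3, 0, 4],
  [0, 2, 6, 1, 3, 0, 6, 2, 1, 3],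
  [0, 3, 0, 3, 0, 3, 5, 0, 5, 3],
  [0, 3, 0, 3, 0, 5, 3, 0, 3, 5],
  [0, 3, 0, 4, 5, 3, 1, 3, 5, 4],
  [0, 5, 0, 5],
  [0, 1, 7, 0, 1, 7],
  [1, 3, 1, 3, 5, 3, 5],
  [0, 1, 0, 1, 0, 1, 0, 1],
  [0, 1, 3, 1, 0, 1, 3, 1],
  [0, 1, 7, 2, 7, 3, 7, 2],
  [0, 1, 7, 5, 0, 5, 1, 7],
  [0, 2, 3, 7, 0, 7, 2, 3],
  [0, 3, 0, 3, 0, 3, 0, 3],
  [0, 3, 5, 3, 0, 3, 5, 3],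
  [0, 7, 0, 7, 0, 7, 0, 7],
  [1, 2, 7, 2, 1, 3, 7, 3],
  [1, 3, 1, 5, 1, 3, 1, 5],
  [1, 5, 3, 5, 1, 5, 3, 5],
  [1, 7, 1, 7, 1, 7, 1, 7],
  [2, 3, 2, 3, 2, 3, 2, 3],
  [0, 1, 0, 1, 5, 1, 0, 1, 5],
  [0, 1, 3, 1, 0, 3, 5, 3, 5],
  [0, 1, 3, 1, 5, 0, 3, 5, 3],
  [0, 2, 7, 1, 2, 3, 0, 7, 3],
  [0, 3, 1, 3, 1, 5, 3, 0, 5],
  [0, 1, 0, 1, 0, 1, 7, 1, 0, 7],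
  [0, 1, 0, 1, 0, 3, 1, 0, 1, 3],
  [0, 1, 0, 3, 0, 3, 1, 3, 0, 3],
  [0, 1, 0, 7, 0, 7, 1, 7, 0, 7],
  [0, 1, 2, 0, 7, 3, 7, 0, 2, 7],
  [0, 1, 2, 3, 0, 2, 3, 7, 1, 7],
  [0, 1, 3, 1, 0, 3, 1, 3, 1, 3],
  [0, 1, 3, 1, 0, 5, 1, 3, 1, 5],
  [0, 1, 3, 1, 7, 1, 0, 7, 3, 1],
  [0, 1, 3, 2, 0, 3, 2, 7, 1, 7],
  [0, 1, 3, 7, 2, 0, 1, 3, 7, 2],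
  [0, 1, 7, 1, 7, 0, 7, 1, 7, 1],
  [0, 2, 0, 2, 0, 2, 5, 0, 5, 2],
  [0, 2, 0, 2, 7, 0, 2, 0, 2, 7],
  [0, 2, 0, 2, 7, 2, 0, 2, 0, 7],
  [0, 2, 1, 2, 0, 2, 7, 1, 7, 2],
  [0, 2, 1, 2, 7, 0, 7, 3, 1, 3],
  [0, 2, 1, 3, 0, 7, 2, 1, 3, 7],
  [0, 2, 1, 3, 5, 0, 5, 2, 1, 3],
  [0, 2, 3, 0, 2, 3, 0, 7, 0, 7],
  [0, 2, 3, 2, 3, 0, 3, 2, 3, 2],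
  [0, 2, 3, 7, 5, 0, 5, 7, 2, 3],
  [0, 2, 7, 0, 3, 0, 7, 2, 1, 7],
  [0, 3, 0, 3, 0, 3, 5, 0, 5, 3],
  [0, 3, 0, 3, 0, 5, 3, 0, 3, 5],
  [0, 3, 1, 7, 1, 3, 0, 3, 7, 3],
  [0, 3, 5, 3, 0, 5, 3, 5, 3, 5],
  [0, 5, 1, 7, 2, 7, 3, 7, 2, 5],
  [0, 5, 1, 7, 5, 0, 5, 1, 7, 5],
  [0, 5, 2, 3, 7, 0, 7, 2, 3, 5],
  [0, 5, 7, 0, 7, 0, 7, 0, 7, 5],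
  [1, 5, 2, 3, 2, 3, 5, 7, 1, 7],
  [1, 5, 3, 2, 3, 2, 5, 7, 1, 7],
  [1, 7, 3, 7, 5, 3, 5, 7, 3, 7],
  [0, 1, 0, 1, 5, 1, 5, 0, 5, 1, 5],
  [0, 1, 0, 1, 5, 1, 7, 1, 0, 7, 5],
  [0, 1, 0, 1, 5, 3, 1, 0, 1, 3, 5],
  [0, 1, 0, 1, 5, 7, 0, 1, 7, 1, 5],
  [0, 1, 0, 1, 7, 5, 1, 0, 1, 5, 7],
  [0, 1, 0, 2, 0, 3, 0, 7, 3, 2, 7],
  [0, 1, 0, 2, 0, 3, 7, 2, 3, 0, 7],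
  [0, 1, 0, 3, 0, 1, 3, 0, 5, 3, 5],
  [0, 1, 0, 3, 0, 1, 3, 5, 0, 3, 5],
  [0, 1, 0, 3, 0, 1, 5, 3, 0, 5, 3],
  [0, 1, 0, 3, 0, 1, 5, 3, 5, 0, 3],
  [0, 1, 0, 3, 1, 5, 1, 3, 0, 1, 5],
  [0, 1, 0, 3, 2, 7, 3, 0, 2, 0, 7],
  [0, 1, 0, 3, 7, 1, 2, 0, 7, 2, 7],
  [0, 1, 2, 0, 2, 7, 2, 3, 7, 2, 3],
  [0, 1, 2, 0, 3, 7, 2, 3, 1, 7, 1],
  [0, 1, 2, 0, 5, 7, 0, 7, 5, 2, 1],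
  [0, 1, 2, 1, 2, 5, 0, 2, 3, 2, 5],
  [0, 1, 2, 3, 7, 0, 3, 0, 2, 0, 7],
  [0, 1, 2, 3, 7, 2, 3, 7, 2, 0, 2],
  [0, 1, 2, 3, 7, 2, 7, 2, 7, 1, 2],
  [0, 1, 2, 5, 0, 7, 0, 7, 5, 2, 1],
  [0, 1, 2, 7, 0, 2, 1, 7, 3, 0, 7],
  [0, 1, 2, 7, 1, 2, 0, 1, 2, 7, 2],
  [0, 1, 2, 7, 1, 2, 0, 3, 7, 3, 1],
  [0, 1, 2, 7, 3, 0, 2, 1, 7, 3, 1],
  [0, 1, 3, 0, 1, 5, 1, 0, 3, 1, 5],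
  [0, 1, 3, 0, 2, 7, 1, 2, 3, 1, 7],
  [0, 1, 3, 0, 5, 1, 0, 1, 5, 3, 1],
  [0, 1, 3, 0, 5, 3, 0, 5, 1, 0, 3],
  [0, 1, 3, 1, 0, 1, 5, 3, 5, 1, 3],
  [0, 1, 3, 2, 7, 1, 2, 0, 3, 7, 1],
  [0, 1, 3, 2, 7, 3, 0, 2, 1, 7, 1],
  [0, 1, 3, 5, 0, 3, 0, 5, 1, 0, 3],
  [0, 1, 3, 5, 3, 5, 2, 0, 3, 1, 2],
  [0, 1, 3, 7, 0, 1, 7, 3, 5, 3, 5],
  [0, 1, 3, 7, 0, 1, 7, 5, 3, 5, 3],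
  [1, 2, 5, 2, 5, 2, 1, 2, 5, 2, 5, 2]]

end Cfsg.Agent.TransvUniq.M24
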