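import Cfsg.Agent.Lib.Golay.M24
import Cfsg.Agent.Lib.Golay.Mathieu
import Cfsg.Agent.Lib.Golay.Local.ClassTools

/-!
A group whose generators act on the cosets of a core-free subgroup as given elements of `M₂₄` act on the 759
octads is isomorphic to `M₂₄`.
-/

set_option autoImplicit false
set_option maxRecDepth 20000

namespace Cfsg.Agent.TransvUniq.M24

open Cfsg Cfsg.Agent.Golay Cfsg.Agent.PermCert Cfsg.Agent.Golay.Cert Cfsg.Agent.Golay.Local
open scoped Pointwise

/-- The octads as a type. -/
abbrev Oct : Type := {o : Finset GolayPt // o ∈ Cfsg.octads}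

/-- The action on octads. -/
noncomputable def octAct : ↥Cfsg.M24 →* Equiv.Perm Oct where
  toFun g :=
    { toFun := fun o => ⟨(g : Equiv.Perm GolayPt) • (o : Finset GolayPt), smul_mem_octads g.2 o.2⟩
      invFun := fun o => ⟨(g : Equiv.Perm GolayPt)⁻¹ • (o : Finset GolayPt), smul_mem_octads (inv_mem g.2) o.2⟩
      left_inv := fun o => Subtype.ext (inv_smul_smul _ _)
      right_inv := fun o => Subtype.ext (smul_inv_smul _ _) }
  map_one' := Equiv.ext fun o => Subtype.ext (one_smul _ _)
  map_mul' g h := Equiv.ext fun o => Subtype.ext (mul_smul _ _ _)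

theorem octad_pair : ∃ a b : Oct, a ≠ b := by
  have h : maskSet (octadList.getD 0 0) ≠ maskSet (octadList.getD 1 0) := by decide +kernel
  have hl : 1 < octadList.length := by decide +kernel
  exact ⟨⟨_, mem_octads.2 ⟨_, List.getD_eq_getElem octadList 0 (by omega : 0 < octadList.length) ▸
      List.getElem_mem _, rfl⟩⟩, ⟨_, mem_octads.2 ⟨_, List.getD_eq_getElem octadList 0 hl ▸ List.getElem_mem _, rfl⟩⟩,
    fun e => h (congrArg Subtype.val e)⟩

theorem octAct_injective : Function.Injective octAct := by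
  haveI := isSimpleGroup_M24
  rw [← MonoidHom.ker_eq_bot_iff]
  refine (IsSimpleGroup.eq_bot_or_eq_top_of_normal _ octAct.normal_ker).resolve_right fun h => ?_
  obtain ⟨a, b, hab⟩ := octad_pair
  obtain ⟨g, hg, e⟩ := exists_M24_octad a.2 b.2
  have hk : (⟨g, hg⟩ : ↥Cfsg.M24) ∈ octAct.ker := h ▸ Subgroup.mem_top _
  have := congrArg (fun p : Equiv.Perm Oct => p a) (MonoidHom.mem_ker.1 hk)
  exact hab ((Subtype.ext e : _ = b).symm.trans this).symm

variable {G : Type*} [Group G] {ι : Type*}

/-- **Identification with `M₂₄` by the action on the cosets.** -/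
theorem iso_of_octads {H : Subgroup G} (gen : ι → G) (hgen : Subgroup.closure (Set.range gen) = ⊤)
    (hcore : H.normalCore = ⊥) (f : G ⧸ H ≃ Oct) (σ : ι → ↥Cfsg.M24)
    (hσ : Subgroup.closure (Set.range σ) = ⊤)
    (hact : ∀ i x, f (gen i • x) = octAct (σ i) (f x)) : Nonempty (G ≃* ↥Cfsg.M24) := by
  let Φ : G →* Equiv.Perm Oct := f.permCongrHom.toMonoidHom.comp (MulAction.toPermHom G (G ⧸ H))
  have happ : ∀ g x, Φ g (f x) = f (g • x) := fun g x => by
    simp [Φ, Equiv.permCongrHom, Equiv.permCongr_apply]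
  have hgen' : ∀ i, Φ (gen i) = octAct (σ i) := fun i => Equiv.ext fun o => by
    obtain ⟨x, rfl⟩ := f.surjective o
    rw [happ, hact]
  have hrange : Φ.range = octAct.range := by
    rw [MonoidHom.range_eq_map, MonoidHom.range_eq_map, ← hgen, ← hσ, MonoidHom.map_closure, MonoidHom.map_closure]
    congr 1
    rw [← Set.range_comp, ← Set.range_comp]
    exact congrArg Set.range (funext hgen')
  have hinj : Function.Injective Φ := by
    rw [← MonoidHom.ker_eq_bot_iff, ← hcore, Subgroup.normalCore_eq_ker]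
    ext g
    rw [MonoidHom.mem_ker, MonoidHom.mem_ker]
    constructor
    · intro hg
      refine Equiv.ext fun x => f.injective ?_
      rw [MulAction.toPermHom_apply, MulAction.toPerm_apply, ← happ, hg]; rfl
    · intro hg
      show f.permCongrHom (MulAction.toPermHom G (G ⧸ H) g) = 1
      rw [hg, map_one]
  exact ⟨((MonoidHom.ofInjective hinj).trans (MulEquiv.subgroupCongr hrange)).trans
    (MonoidHom.ofInjective octAct_injective).symm⟩

/-- The code of a product of listed generators. -/
def codeWord (es : List Elt) : List ℕ → ℕ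
  | [] => idC
  | i :: l => cmpF (es.getD i (0, 0)).1 (codeWord es l)

/-- A product of listed generators. -/
def wordPerm (es : List Elt) : List ℕ → Equiv.Perm GolayPt
  | [] => 1
  | i :: l => permOf (es.getD i (0, 0)) * wordPerm es l

/-- The words give the standard generators of the code group. -/
def wordsOK (es : List Elt) (words : List (List ℕ)) : Bool :=
  allBelow (fun n => (words.getD n []).all (fun i => Nat.blt i es.length) &&
    sameF (m24Gens.getD n (0, 0)).1 (codeWord es (words.getD n []))) m24Gens.length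

theorem code_codeWord {es : List Elt} (he : ∀ d ∈ es, validElt 5 24 d = true) :
    ∀ l : List ℕ, (∀ i ∈ l, i < es.length) → Code (codeWord es l) (wordPerm es l)
  | [], _ => code_idC
  | i :: l, h => by
    have hi := h i List.mem_cons_self
    refine (code_permOf (he _ ?_)).cmp (code_codeWord he l fun j hj => h j (List.mem_cons_of_mem _ hj))
    rw [List.getD_eq_getElem _ _ hi]
    exact List.getElem_mem _

theorem wordPerm_mem {es : List Elt} : ∀ l : List ℕ, (∀ i ∈ l, i < es.length) →
    wordPerm es l ∈ Subgroup.closure {σ | ∃ d ∈ es, permOf d = σ}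
  | [], _ => Subgroup.one_mem _
  | i :: l, h => by
    have hi := h i List.mem_cons_self
    refine Subgroup.mul_mem _ (Subgroup.subset_closure ⟨_, ?_, rfl⟩) (wordPerm_mem l fun j hj => h j (List.mem_cons_of_mem _ hj))
    rw [List.getD_eq_getElem _ _ hi]
    exact List.getElem_mem _

/-- The check of a table: generators in the code group, their inverse codes, and their action on 759 masks. -/
def tableOK (es : List Elt) (oc : List ℕ) (tab : ℕ → ℕ → ℕ) : Bool :=
  es.all (fun e => validElt 5 24 e && isAutB e) && Nat.beq oc.length 759 && oc.all (fun m => Nat.beq (popCount m 24) 8 && inCode m) &&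
  allBelow (fun i => allBelow (fun x => Nat.blt (tab i x) 759 &&
    Nat.beq (imgMask (es.getD i (0, 0)) (oc.getD x 0)) (oc.getD (tab i x) 0)) 759) es.length

/-- The same from the table of the action on the numbers below 759. -/
theorem iso_of_table {k : ℕ} {H : Subgroup G} (gen : Fin k → G) (hgen : Subgroup.closure (Set.range gen) = ⊤)
    (hcore : H.normalCore = ⊥) (tab : ℕ → ℕ → ℕ) (f : G ⧸ H ≃ Fin 759)
    (hact : ∀ (i : Fin k) x, ((f (gen i • x) : Fin 759) : ℕ) = tab i (f x : Fin 759))
    (es : List Elt) (hk : es.length = k) (oc : List ℕ) (hnd : oc.Nodup) (hok : tableOK es oc tab = true)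
    (words : List (List ℕ)) (hfull : wordsOK es words = true) : Nonempty (G ≃* ↥Cfsg.M24) := by
  simp only [tableOK, Bool.and_eq_true, Nat.beq_eq] at hok
  obtain ⟨⟨⟨he, hlen⟩, hoc⟩, htab⟩ := hok
  have hspec : ∀ d ∈ es, validElt 5 24 d = true ∧ isAutB d = true := fun d hd => by
    simpa using List.all_eq_true.1 he d hd
  have hmem : ∀ d ∈ es, permOf d ∈ Cfsg.M24 := fun d hd => permOf_mem_M24 (hspec d hd).1 (hspec d hd).2
  have hcl : Subgroup.closure {σ | ∃ d ∈ es, permOf d = σ} = Cfsg.M24 := by
    refine le_antisymm ((Subgroup.closure_le _).2 ?_) ?_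
    · rintro _ ⟨d, hd, rfl⟩; exact hmem d hd
    · rw [← genPerm_M24, genPerm, genGroup, MonoidHom.map_closure, Subgroup.closure_le]
      rintro _ ⟨τ, hτ, rfl⟩
      obtain ⟨d, hd, rfl⟩ := List.mem_map.1 hτ
      obtain ⟨n, hn, rfl⟩ := List.mem_iff_getElem.1 hd
      have h := allBelow_spec _ _ hfull n hn
      simp only [Bool.and_eq_true, List.all_eq_true, Nat.blt_eq] at h
      have hw := code_codeWord (fun d hd => (hspec d hd).1) _ h.1
      have hv : validElt 5 24 m24Gens[n] = true := List.all_eq_true.1 gens_valid _ (List.getElem_mem hn)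
      rw [List.getD_eq_getElem _ _ hn] at h
      show permOf m24Gens[n] ∈ _
      rw [(sameF_iff (code_permOf hv) hw).1 h.2]
      exact wordPerm_mem _ h.1
  let σ : Fin k → ↥Cfsg.M24 := fun i => ⟨permOf (es[(i : ℕ)]'(hk ▸ i.2)), hmem _ (List.getElem_mem _)⟩
  have hσ : Subgroup.closure (Set.range σ) = ⊤ := by
    refine Subgroup.map_injective Cfsg.M24.subtype_injective ?_
    rw [MonoidHom.map_closure, ← MonoidHom.range_eq_map, Subgroup.range_subtype, ← Set.range_comp]
    convert hcl using 2
    ext τ
    constructor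
    · rintro ⟨i, rfl⟩; exact ⟨_, List.getElem_mem _, rfl⟩
    · rintro ⟨d, hd, rfl⟩
      obtain ⟨i, hi, rfl⟩ := List.mem_iff_getElem.1 hd
      exact ⟨⟨i, hk ▸ hi⟩, rfl⟩
  have hocm : ∀ x : Fin 759, maskSet (oc.getD x 0) ∈ Cfsg.octads := fun x => by
    have hx : (x : ℕ) < oc.length := hlen.symm ▸ x.2
    have h := List.all_eq_true.1 hoc _ (List.getElem_mem hx)
    simp only [Bool.and_eq_true, Nat.beq_eq] at h
    rw [List.getD_eq_getElem _ _ hx]
    exact mem_octads.2 ⟨_, mem_octadList.2 ⟨mem_codeList_of_inCode h.2, h.1⟩, rfl⟩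
  let φ : Fin 759 → Oct := fun x => ⟨_, hocm x⟩
  have hφ : Function.Injective φ := fun a b e => by
    have ha : (a : ℕ) < oc.length := hlen.symm ▸ a.2
    have hb : (b : ℕ) < oc.length := hlen.symm ▸ b.2
    have lt : ∀ (n : ℕ) (hn : n < oc.length), oc[n] < 2 ^ 24 := fun n hn => by
      have h := List.all_eq_true.1 hoc _ (List.getElem_mem hn)
      simp only [Bool.and_eq_true] at h
      exact lt_of_mem_codeList (mem_codeList_of_inCode h.2)
    have h := congrArg Subtype.val e
    simp only [φ, List.getD_eq_getElem _ _ ha, List.getD_eq_getElem _ _ hb] at h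
    exact Fin.ext (hnd.getElem_inj_iff.1 (maskSet_inj (lt _ ha) (lt _ hb) h))
  have hφb : Function.Bijective φ := by
    classical
    refine ⟨hφ, fun o => ?_⟩
    obtain ⟨m, hm, e⟩ := mem_octads.1 o.2
    have hsub : oc.toFinset ⊆ octadList.toFinset := fun z hz => by
      rw [List.mem_toFinset] at hz ⊢
      have h := List.all_eq_true.1 hoc z hz
      simp only [Bool.and_eq_true, Nat.beq_eq] at h
      exact mem_octadList.2 ⟨mem_codeList_of_inCode h.2, h.1⟩
    have heq := Finset.eq_of_subset_of_card_le hsub (by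
      rw [List.toFinset_card_of_nodup hnd, List.toFinset_card_of_nodup octadList_nodup, hlen]
      exact le_of_eq octadList_length)
    have hm' : m ∈ oc.toFinset := by rw [heq]; exact List.mem_toFinset.2 hm
    obtain ⟨n, hn, rfl⟩ := List.mem_iff_getElem.1 (List.mem_toFinset.1 hm')
    exact ⟨⟨n, hlen ▸ hn⟩, Subtype.ext (by simp only [φ, List.getD_eq_getElem _ _ hn]; exact e)⟩
  refine iso_of_octads gen hgen hcore (f.trans (Equiv.ofBijective φ hφb)) σ hσ fun i x => ?_
  have hi : (i : ℕ) < es.length := hk ▸ i.2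
  have h := allBelow_spec _ _ (allBelow_spec _ _ htab i hi) (f x) (f x).2
  simp only [Bool.and_eq_true, Nat.beq_eq] at h
  refine Subtype.ext ?_
  show maskSet (oc.getD (f (gen i • x) : Fin 759) 0) = (permOf (es[(i : ℕ)]'hi)) • maskSet (oc.getD (f x : Fin 759) 0)
  rw [hact, maskSet_imgMask (hspec _ (List.getElem_mem hi)).1, ← h.2, List.getD_eq_getElem _ _ hi]

end Cfsg.Agent.TransvUniq.M24
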