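import Cfsg.Agent.Lib.TransvUniq.M24.Codes

/-!
The generators of the M24 branch exist in a group with fusion mask 115: the relations of the octad group, of the
sextet group and the trio relation hold, and the letters of the octad group generate the image of the hyperplane
stabiliser, which contains the centraliser of the involution.
-/

set_option autoImplicit false
set_option maxRecDepth 20000
set_option linter.unusedSectionVars false

namespace Cfsg.Agent.TransvUniq.M24

open Cfsg.Agent.HeUniq.Model Cfsg.Agent.HeUniq.Local Cfsg.Agent.HeUniq.Fus Cfsg.Agent.HeUniq.Excl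
open L52 (P1 CS fm colS embS)
open L5 (S5 M5 dec)
open CosetCert (wprod wprod_reverse)
open Subgroup

variable {G : Type*} [Group G] {t : G} {F : Frame G t}

theorem mask_twist_115 (hm : mask F = 115) : mask F.twist = 121 := by
  refine Nat.eq_of_testBit_eq fun k => ?_
  rcases Nat.lt_or_ge k 8 with hk | hk
  · rw [testBit_twist F hk, hm]
    interval_cases k <;> rfl
  · rw [Nat.testBit_lt_two_pow ((mask_lt F.twist).trans_le (Nat.pow_le_pow_right two_pos hk)),
      Nat.testBit_lt_two_pow (lt_of_lt_of_le (by norm_num : (121 : ℕ) < 256) (Nat.pow_le_pow_right two_pos hk))]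

theorem small_code (S : Sextet.Sx F.twist) : ∀ {x : ℕ}, x < 4 → ∀ u : ℕ,
    InC (oC x) ∧ S.g (md (sI u x)) = F.f (oC x) := by
  intro x hx u
  have h := List.all_eq_true.1 small_ok x (List.mem_range.2 hx)
  simp only [smallOK, Bool.and_eq_true] at h
  have e : sI u x = sI oTrans x := by
    interval_cases x <;> rfl
  rw [e]
  exact pair_code S h.2

theorem elt_sx (S : Sextet.Sx F.twist) {v : ℕ} (hv : v < 64) : S.g (md v) = elt F.twist v := by
  have h := S.pair e48 (show e48 < 48 by norm_num [e48]) v hv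
  have hf : qA e48 = 0 ∧ kA1 e48 = oneC := by decide +kernel
  rw [Sextet.dS_ok.2.2, hf.1, hf.2, F.twist.one, mul_one, Nat.xor_zero, Nat.mul_zero, Nat.zero_add] at h
  exact h

theorem lin_md : ∀ v < 64, mM (md (64 * oLinIdx)) (md v) = mM (md (app oLinIdx v)) (md (64 * oLinIdx)) ∧
    mM (md v) (md (64 * oLinIdx)) = md (64 * oLinIdx + v) := by decide +kernel

theorem exists_trans (S : Sextet.Sx F.twist) {h : P1 →* G} (hF : OnFrame F h) :
    hh h (oC 5) = S.g (md (sI oTrans 5)) ∨ hh h (oC 5) = S.g (md (sI oTransAlt 5)) := by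
  have ho := oAct_ok
  simp only [oActOK, Bool.and_eq_true, Nat.blt_eq] at ho
  obtain ⟨hi, hact⟩ := ho
  have h5 := (oct_spec (x := 5) (by norm_num)).1
  have hth : ∀ v < 64, InC (theta (eA v)) ∧ hh h (theta (eA v)) = elt F.twist v := fun v hv =>
    ⟨(elt_inC hv).theta, hh_inC hF (elt_inC hv).theta⟩
  have hLo : Lift F.twist oLinIdx (hh h (oC 5)) := fun v hv => by
    have e := Nat.eq_of_beq_eq_true (allB_spec hact v hv)
    refine mul_inv_eq_iff_eq_mul.2 ?_
    rw [← (hth v hv).2, ← (hth _ (app_lt _ _)).2, ← hh_mul h h5 (oc_inC (hth v hv).1), e,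
      hh_mul h (oc_inC (hth _ (app_lt _ _)).1) h5]
  have hI : InM (md (64 * oLinIdx)) := inM_md' (by omega)
  have hLs : Lift F.twist oLinIdx (S.g (md (64 * oLinIdx))) := fun v hv => by
    refine mul_inv_eq_iff_eq_mul.2 ?_
    rw [← elt_sx S hv, ← elt_sx S (app_lt _ _), ← S.mul _ _ hI (inM_md' (by omega)), (lin_md v hv).1,
      S.mul _ _ (inM_md' (by have := app_lt oLinIdx v; omega)) hI]
  obtain ⟨u, hu, e⟩ := Lift.unique F.twist hLs hLo
  have e' : hh h (oC 5) = S.g (md (sI u 5)) := by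
    rw [e, ← elt_sx S hu, ← S.mul _ _ (inM_md' (by omega)) hI, (lin_md u hu).2]
    rfl
  have hc := allB_spec trans_ok u hu
  simp only [transOK, Bool.or_eq_true, Nat.beq_eq, List.any_eq_true, Bool.and_eq_true, Bool.not_eq_true',
    List.all_eq_true, List.contains_eq_mem, decide_eq_true_eq] at hc
  rcases hc with (rfl | rfl) | ⟨w, -, ⟨hlet, h1⟩, h2⟩
  · exact Or.inl e'
  · exact Or.inr e'
  exfalso
  have hlet7 : ∀ x ∈ w, x < 7 := fun x hx => by
    have := hlet x hx
    simp only [comLet, List.mem_cons, List.not_mem_nil, or_false] at this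
    omega
  have hp : wprod (fun x => hh h (oC x)) w = wprod (fun x => S.g (md (sI u x))) w := wprod_congr fun x hx => by
    have := hlet x hx
    simp only [comLet, List.mem_cons, List.not_mem_nil, or_false] at this
    rcases (show x < 4 ∨ x = 5 by omega) with h4 | rfl
    · obtain ⟨hC, hg⟩ := small_code S h4 u
      rw [hh_inC hF hC, hg]
    · exact e'
  obtain ⟨hin, h7⟩ := ev7_spec S hu w fun x hx => (hlet7 x hx).trans (by norm_num)
  rw [(ev5_spec h w hlet7).2, h1, hh_one, h7] at hp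
  rw [S.inj _ _ hin inM_one ((hp.symm).trans (sx_one S).symm), Nat.beq_refl] at h2
  exact Bool.noConfusion h2

/-- The hom of the hyperplane stabiliser can be chosen to agree with the sextet group on the fifth letter. -/
theorem exists_hom [Finite G] (hm : mask F = 115) (S : Sextet.Sx F.twist) :
    ∃ h : P1 →* G, OnFrame F h ∧ hh h (oC 5) = S.g (md (sI oTrans 5)) := by
  obtain ⟨h, hF⟩ := L52.exists_P1_hom F (by rw [hm]; decide)
  rcases exists_trans S hF with e | e
  · exact ⟨h, hF, e⟩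
  refine ⟨(MulAut.conj t).toMonoidHom.comp h, fun g hg hC => ?_, ?_⟩
  · show MulAut.conj t (h ⟨g, hg⟩) = _
    rw [MulAut.conj_apply, hF g hg hC, ← L52.fm_cent F ⟨g, hC⟩, mul_inv_cancel_right]
  · obtain ⟨k, hk⟩ := (oct_spec (x := 5) (by norm_num)).1
    rw [hh_eq _ hk]
    rw [hh_eq _ hk] at e
    show MulAut.conj t (h k) = _
    rw [MulAut.conj_apply, e]
    have ht : S.g (md 1) = t := (elt_sx S (by norm_num)).trans (elt_one F.twist)
    have ht2 : t⁻¹ = t := by
      rw [← elt_one F.twist]; exact elt_inv F.twist (by norm_num)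
    rw [ht2]
    have hf := flip_ok
    simp only [flipOK, Bool.and_eq_true, Nat.beq_eq, Nat.blt_eq] at hf
    obtain ⟨⟨hf1, hu⟩, hv⟩ := hf
    have hI : InM (md (sI oTransAlt 5)) := inM_md' (sI_lt _ hv 5 (by norm_num))
    have h3 : S.g (mM (mM (md 1) (md (sI oTransAlt 5))) (md 1)) = S.g (md (sI oTrans 5)) := congrArg S.g hf1
    rw [S.mul _ _ (inM_mul (inM_md' (by norm_num)) hI) (inM_md' (by norm_num)),
      S.mul _ _ (inM_md' (by norm_num)) hI, ht] at h3
    exact h3

/-- The letters. -/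
noncomputable def letterGen (h : P1 →* G) (S : Sextet.Sx F.twist) (x : ℕ) : G :=
  if x < 7 then hh h (oC x) else if x = 7 then S.g (md (sI oTrans 7)) else 1

variable {h : P1 →* G} {S : Sextet.Sx F.twist}

theorem gen_oct {x : ℕ} (hx : x < 7) : letterGen h S x = hh h (oC x) := if_pos hx

theorem gen_sq (x : ℕ) : letterGen h S x * letterGen h S x = 1 := by
  rcases Nat.lt_or_ge x 7 with hx | hx
  · obtain ⟨h1, h2⟩ := oct_spec hx
    rw [gen_oct hx, ← hh_mul h h1 h1, h2, hh_one]
  by_cases h7 : x = 7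
  · subst h7
    rw [letterGen, if_neg (by norm_num), if_pos rfl]
    have hI : InM (md (sI oTrans 7)) := inM_md' (sI_lt _ (by decide) 7 (by norm_num))
    rw [← S.mul _ _ hI hI, show mM (md (sI oTrans 7)) (md (sI oTrans 7)) = oneM by decide +kernel, sx_one]
  · rw [letterGen, if_neg (by omega), if_neg h7, mul_one]

theorem wprod_oct {w : List ℕ} (hw : ∀ x ∈ w, x < 7) :
    OC (ev5 w) ∧ wprod (letterGen h S) w = hh h (ev5 w) := by
  obtain ⟨h1, h2⟩ := ev5_spec h w hw
  exact ⟨h1, (wprod_congr fun x hx => gen_oct (hw x hx)).trans h2⟩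

theorem wprod_sex (hF : OnFrame F h) (h5 : hh h (oC 5) = S.g (md (sI oTrans 5))) {w : List ℕ}
    (hw : ∀ x ∈ w, x ∈ sexLet) :
    InM (ev7 oTrans w) ∧ wprod (letterGen h S) w = S.g (ev7 oTrans w) := by
  have h8 : ∀ x ∈ w, x < 8 := fun x hx => by
    have := hw x hx
    simp only [sexLet, List.mem_cons, List.not_mem_nil, or_false] at this
    omega
  obtain ⟨h1, h2⟩ := ev7_spec S (u := oTrans) (by decide) w h8
  refine ⟨h1, (wprod_congr fun x hx => ?_).trans h2⟩
  have := hw x hx
  simp only [sexLet, List.mem_cons, List.not_mem_nil, or_false] at this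
  rcases (show x < 4 ∨ x = 5 ∨ x = 7 by omega) with h4 | rfl | rfl
  · obtain ⟨hC, hg⟩ := small_code S h4 oTrans
    rw [gen_oct (by omega), hh_inC hF hC, hg]
  · rw [gen_oct (by norm_num), h5]
  · rw [letterGen, if_neg (by norm_num), if_pos rfl]

theorem comm_rel (hF : OnFrame F h) (h5 : hh h (oC 5) = S.g (md (sI oTrans 5))) :
    wprod (letterGen h S) commRel = 1 := by
  have hc := comm_ok
  simp only [commOK, Bool.and_eq_true, beq_iff_eq, List.all_eq_true, List.contains_eq_mem,
    decide_eq_true_eq] at hc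
  obtain ⟨hcomm, hfw⟩ := hc
  obtain ⟨hfI, hf⟩ := wprod_sex (S := S) hF h5 hfw
  set p := hh h (oC 6) with hp
  set f := S.g (ev7 oTrans fWord) with hfdef
  rw [hcomm, show (6 :: (fWord ++ 6 :: fWord.reverse)) = [6] ++ (fWord ++ ([6] ++ fWord.reverse)) from rfl,
    CosetCert.wprod, List.map_append, List.prod_append, List.map_append, List.prod_append, List.map_append,
    List.prod_append]
  change wprod (letterGen h S) [6] * (wprod (letterGen h S) fWord *
    (wprod (letterGen h S) [6] * wprod (letterGen h S) fWord.reverse)) = 1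
  rw [wprod_reverse gen_sq, hf, show wprod (letterGen h S) [6] = p by simp [wprod, gen_oct, hp]]
  obtain ⟨h6, h66⟩ := oct_spec (x := 6) (by norm_num)
  have hpp : p * p = 1 := by rw [hp, ← hh_mul h h6 h6, h66, hh_one]
  let aP : ℕ → ℕ := fun v => actP.getD v 64
  let aF : ℕ → ℕ := fun v => actF.getD v 64
  have key : ∀ v < 64, aP v < 64 ∧ aF v < 64 ∧ aP (aF v) = aF (aP v) ∧ (v ≠ 0 → aF v ≠ v) ∧
      (∃ w < 64, w ^^^ aF w = v) ∧ p * elt F v = elt F (aP v) * p ∧ f * elt F v = elt F (aF v) * f := by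
    intro v hv
    have hk := allB_spec trio_ok v hv
    simp only [trioOK, Bool.and_eq_true, Nat.blt_eq, Nat.beq_eq, Bool.or_eq_true, Bool.not_eq_true',
      List.any_eq_true, List.mem_range] at hk
    obtain ⟨⟨⟨⟨⟨⟨⟨⟨hk1, hk2⟩, hk3⟩, hk4⟩, hk5⟩, hk6⟩, hk7⟩, hk8⟩, hk9⟩ := hk
    have htI : ∀ w < 64, tI w < 138240 ∧ S.g (md (tI w)) = elt F w := by
      intro w hw
      have hk := allB_spec trio_ok w hw
      simp only [trioOK, Bool.and_eq_true] at hk
      obtain ⟨⟨⟨⟨⟨⟨⟨⟨a1, a2⟩, -⟩, -⟩, -⟩, -⟩, -⟩, -⟩, -⟩ := hk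
      exact ⟨Nat.blt_eq ▸ a1 |> fun h => by simpa using h, (pair_code S a2).2⟩
    refine ⟨hk3, hk5, hk7, fun h0 e => ?_, ?_, ?_, ?_⟩
    · rcases hk8 with h' | h'
      · exact h0 h'
      · exact Bool.eq_false_iff.1 h' (by rw [show actF.getD v 64 = v from e]; exact Nat.beq_refl v)
    · obtain ⟨w, hw, e⟩ := hk9
      exact ⟨w, hw, e⟩
    · have hC := elt_inC hv
      have hC' := elt_inC hk3
      show p * F.f (eA v) = F.f (eA (aP v)) * p
      rw [← hh_inC hF hC, ← hh_inC hF hC', hp, ← hh_mul h h6 (oc_inC hC), hk4, hh_mul h (oc_inC hC') h6]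
    · rw [← (htI v hv).2, ← (htI _ hk5).2, hfdef, ← S.mul _ _ hfI (inM_md' (htI v hv).1), hk6,
        S.mul _ _ (inM_md' (htI _ hk5).1) hfI]
  have hsurj : ∀ w < 64, ∃ v < 64, aF v = w := by
    let φ : Fin 64 → Fin 64 := fun v => ⟨aF v, (key v v.2).2.1⟩
    have hinj : Function.Injective φ := fun a b e => Fin.ext (by
      have e' : aF a = aF b := congrArg Fin.val e
      refine elt_inj F a.2 b.2 (mul_left_cancel (a := f) ?_)
      rw [(key a a.2).2.2.2.2.2.2, (key b b.2).2.2.2.2.2.2, e'])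
    intro w hw
    obtain ⟨v, hv⟩ := Finite.injective_iff_surjective.1 hinj ⟨w, hw⟩
    exact ⟨v, v.2, congrArg Fin.val hv⟩
  have hPP : ∀ w < 64, elt F (aP (aP w)) = elt F w := fun w hw => by
    have h1 := (key _ (key w hw).1).2.2.2.2.2.1
    have h2 := (key w hw).2.2.2.2.2.1
    refine mul_right_cancel (b := p) ?_
    rw [← h1]
    calc p * elt F (aP w) = p * (elt F (aP w) * p) * p := by rw [mul_assoc, mul_assoc, hpp, mul_one]
      _ = p * (p * elt F w) * p := by rw [h2]
      _ = elt F w * p := by rw [← mul_assoc p p, hpp, one_mul]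
  obtain ⟨u, hu, hx⟩ : ∃ u < 64, p * f * p * f⁻¹ = elt F u := by
    refine cent_elt F fun w hw => ?_
    obtain ⟨v, hv, rfl⟩ := hsurj w hw
    obtain ⟨hP, hFv, hcom, -, -, hpv, hfv⟩ := key v hv
    have e1 : f⁻¹ * elt F (aF v) = elt F v * f⁻¹ := by
      refine mul_left_cancel (a := f) ?_
      rw [← mul_assoc, mul_inv_cancel, one_mul, ← mul_assoc, hfv, mul_inv_cancel_right]
    calc p * f * p * f⁻¹ * elt F (aF v) = p * f * (p * elt F v) * f⁻¹ := by
          simp only [mul_assoc, e1]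
      _ = p * (f * elt F (aP v)) * p * f⁻¹ := by rw [hpv]; simp only [mul_assoc]
      _ = (p * elt F (aF (aP v))) * f * p * f⁻¹ := by rw [(key _ hP).2.2.2.2.2.2]; simp only [mul_assoc]
      _ = elt F (aP (aF (aP v))) * (p * f * p * f⁻¹) := by
          rw [(key _ (key _ hP).2.1).2.2.2.2.2.1]; simp only [mul_assoc]
      _ = elt F (aF v) * (p * f * p * f⁻¹) := by rw [← hcom, hPP _ hFv]
  obtain ⟨v, hv, hvu⟩ := (key u hu).2.2.2.2.1
  have hFv := (key v hv).2.1
  have hq : Commute f (elt F v * p) := by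
    show f * (elt F v * p) = elt F v * p * f
    have hpf : p * f = p * f * p * f⁻¹ * (f * p) := by
      simp only [mul_assoc, inv_mul_cancel_left, hpp, mul_one]
    rw [mul_assoc (elt F v), hpf, hx, ← mul_assoc (elt F v), elt_mul F hv hu, ← mul_assoc f,
      (key v hv).2.2.2.2.2.2, mul_assoc, ← hvu, ← Nat.xor_assoc, Nat.xor_self, Nat.zero_xor]
  suffices hv0 : v = 0 by
    rw [← mul_assoc, ← mul_assoc, hx, ← hvu, hv0]
    have h0 : aF 0 = 0 := by
      obtain ⟨-, h1, -, -, -, -, h2⟩ := key 0 (by norm_num)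
      rw [elt_zero, mul_one] at h2
      exact elt_inj F h1 (by norm_num) ((mul_eq_right.1 h2.symm).trans (elt_zero F).symm)
    rw [h0, Nat.xor_self, elt_zero]
  by_contra hv0
  have hs := allB_spec shift_ok v hv
  simp only [shiftOK, Bool.or_eq_true, Nat.beq_eq, hv0, false_or, List.any_eq_true, Bool.and_eq_true,
    List.all_eq_true, List.contains_eq_mem, decide_eq_true_eq, List.mem_range, Bool.not_eq_true'] at hs
  obtain ⟨segs, -, hsegs, w, hw, hval, hw0⟩ := hs
  have hvO : OC (eA v) := oc_inC (elt_inC hv)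
  have hseg : ∀ s : List ℕ, ((∀ x ∈ s, x ∈ comLet) ∧
      mM (ev7 oTrans fWord) (ev7 oTrans s) = mM (ev7 oTrans s) (ev7 oTrans fWord)) →
      OC (ev5 s) ∧ Commute f (hh h (ev5 s)) := by
    rintro s ⟨hlet, hco⟩
    have h7 : ∀ x ∈ s, x < 7 := fun x hx => by
      have := hlet x hx
      simp only [comLet, List.mem_cons, List.not_mem_nil, or_false] at this
      omega
    have hx7 : ∀ x ∈ s, x ∈ sexLet := fun x hx => by
      have := hlet x hx
      simp only [comLet, sexLet, List.mem_cons, List.not_mem_nil, or_false] at this ⊢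
      omega
    obtain ⟨o1, o2⟩ := wprod_oct (h := h) (S := S) h7
    obtain ⟨s1, s2⟩ := wprod_sex (S := S) hF h5 hx7
    refine ⟨o1, ?_⟩
    rw [← o2, s2]
    show f * S.g _ = S.g _ * f
    rw [hfdef, ← S.mul _ _ hfI s1, hco, S.mul _ _ s1 hfI]
  have hall : ∀ l : List (List ℕ), (∀ s ∈ l, (∀ x ∈ s, x ∈ comLet) ∧
      mM (ev7 oTrans fWord) (ev7 oTrans s) = mM (ev7 oTrans s) (ev7 oTrans fWord)) →
      OC (segVal v l) ∧ Commute f (hh h (segVal v l)) := by
    intro l
    induction l with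
    | nil => intro _; exact ⟨OC.one, by rw [segVal, hh_one]; exact Commute.one_right f⟩
    | cons s l ih =>
      intro hl
      obtain ⟨s1, s2⟩ := hseg s (hl s List.mem_cons_self)
      cases l with
      | nil => exact ⟨s1, s2⟩
      | cons s' l' =>
        obtain ⟨l1, l2⟩ := ih fun y hy => hl y (List.mem_cons_of_mem _ hy)
        have hm1 := (hvO.mul h6).mul l1
        refine ⟨s1.mul hm1, ?_⟩
        show Commute f (hh h (mC (ev5 s) (mC (mC (eA v) (oC 6)) (segVal v (s' :: l')))))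
        rw [hh_mul h s1 hm1, hh_mul h (hvO.mul h6) l1, hh_mul h hvO h6, hh_inC hF (elt_inC hv), ← hp]
        exact s2.mul_right (hq.mul_right l2)
  obtain ⟨-, hco⟩ := hall segs hsegs
  rw [hval, hh_inC hF (elt_inC hw)] at hco
  obtain ⟨-, hFw, -, hne, -, -, hfw'⟩ := key w hw
  have hw0' : w ≠ 0 := fun e => by rw [e, Nat.beq_refl] at hw0; exact Bool.noConfusion hw0
  refine hne hw0' (elt_inj F hFw hw (mul_right_cancel (b := f) ?_))
  rw [← hfw']
  exact hco

theorem gen_rel (hF : OnFrame F h) (h5 : hh h (oC 5) = S.g (md (sI oTrans 5))) {w : List ℕ}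
    (hw : w ∈ relators) : wprod (letterGen h S) w = 1 := by
  have hr := List.all_eq_true.1 rel_ok w hw
  simp only [relatorOK, Bool.or_eq_true, Bool.and_eq_true, Nat.beq_eq, List.all_eq_true, Nat.blt_eq,
    List.contains_eq_mem, decide_eq_true_eq, beq_iff_eq] at hr
  rcases hr with (⟨hl, h1⟩ | ⟨hl, h1⟩) | rfl
  · rw [(wprod_oct hl).2, h1, hh_one]
  · rw [(wprod_sex hF h5 hl).2, h1, sx_one]
  · exact comm_rel hF h5

end Cfsg.Agent.TransvUniq.M24
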