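import Mathlib.Data.Nat.Notation

/-! Packed words and actions behind the local relations of the generators of the M24 branch. -/

set_option autoImplicit false

namespace Cfsg.Agent.TransvUniq.M24

/-- The linear part of the fifth letter in the sextet group. -/
def oLinIdx : ℕ := 133

/-- The translation of the fifth letter in the sextet group. -/
def oTrans : ℕ := 45

/-- The translation after conjugation by the central involution. -/
def oTransAlt : ℕ := 47

/-- Relations of the common part of the octad and sextet groups. -/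
def osWits : List (List ℕ) := [
  [1, 3, 1, 3, 5, 3, 5],
  [5, 5]]

/-- The trio's elementary group inside the sextet group, as numbers of affine codes. -/
def trioIdx : List ℕ := [0, 1, 32, 33, 1152, 1153, 1184, 1185, 256, 257, 288, 289, 1408, 1409, 1440, 1441, 16, 17, 48, 49, 1168, 1169, 1200, 1201, 272, 273, 304, 305, 1424, 1425, 1456, 1457, 2, 3, 34, 35, 1154, 1155, 1186, 1187, 258, 259, 290, 291, 1410, 1411, 1442, 1443, 18, 19, 50, 51, 1170, 1171, 1202, 1203, 274, 275, 306, 307, 1426, 1427, 1458, 1459]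

/-- The action of the sixth letter on the trio's elementary group. -/
def actP : List ℕ := [0, 1, 2, 3, 16, 17, 18, 19, 32, 33, 34, 35, 48, 49, 50, 51, 4, 5, 6, 7, 20, 21, 22, 23, 36, 37, 38, 39, 52, 53, 54, 55, 8, 9, 10, 11, 24, 25, 26, 27, 40, 41, 42, 43, 56, 57, 58, 59, 12, 13, 14, 15, 28, 29, 30, 31, 44, 45, 46, 47, 60, 61, 62, 63]

/-- The action of the element of order three on the trio's elementary group. -/
def actF : List ℕ := [0, 2, 3, 1, 12, 14, 15, 13, 4, 6, 7, 5, 8, 10, 11, 9, 48, 50, 51, 49, 60, 62, 63, 61, 52, 54, 55, 53, 56, 58, 59, 57, 16, 18, 19, 17, 28, 30, 31, 29, 20, 22, 23, 21, 24, 26, 27, 25, 32, 34, 35, 33, 44, 46, 47, 45, 36, 38, 39, 37, 40, 42, 43, 41]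

/-- Relations of the complement in the trio group, cut at the sixth letter. -/
def trioSegs : List (List (List ℕ)) := [
  [[], [0, 1, 2, 3, 1, 3, 2], [0, 1, 2, 3, 1, 3, 2], [0, 1, 2, 3, 1, 3, 2]],
  [[], [], []],
  [[2, 5, 1, 2, 1, 0, 3, 5], [0, 1, 2, 3, 1, 3, 2], [1, 2, 1, 0, 2, 5, 3, 5], [2, 5, 1, 2, 1, 5, 3, 2]]]

/-- Words for the basis of the column group. -/
def colWords : List (List ℕ) := [
  [1, 3, 0, 4, 6, 4],
  [0, 1, 0, 4, 6, 4],
  [0, 3, 0, 3],
  [0, 6, 0, 6, 0, 6]]

/-- Words for the two generators of the standard complement in the centraliser. -/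
def compWords : List (List ℕ) := [
  [0, 4, 2, 1, 4, 6, 1],
  [0, 1, 6, 3, 4, 1, 3]]

/-- Words moving the central involution over the column group. -/
def transWords : List (List ℕ) := [
  [4, 5],
  [2, 6, 5],
  [1, 4, 2, 5],
  [2, 5],
  [0, 4, 5],
  [0, 2, 6, 5],
  [1, 5, 6, 5],
  [],
  [4, 2, 5],
  [6, 5],
  [1, 4, 5],
  [5],
  [5, 6, 5],
  [0, 6, 5],
  [4, 6, 5]]

end Cfsg.Agent.TransvUniq.M24
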