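import Cfsg.Agent.Lib.TransvUniq.M24.Gens
import Cfsg.Agent.Lib.TransvUniq.M24.LocalData
import Cfsg.Agent.Lib.TransvUniq.M24.Sextet.Defs
import Cfsg.Agent.Lib.TransvUniq.L52.Comp
import Cfsg.Agent.Lib.HeUniq.Excl.Defs

/-! Checks behind the relations of the generators of the M24 branch. -/

set_option autoImplicit false
set_option maxRecDepth 100000
set_option maxHeartbeats 1000000
set_option Elab.async false

namespace Cfsg.Agent.TransvUniq.M24

open Cfsg.Agent.HeUniq.Model Cfsg.Agent.HeUniq.Local Cfsg.Agent.HeUniq.Excl

/-- The matrix code of a letter. -/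
def oC (x : ℕ) : ℕ := octCodes.getD x oneC

/-- The matrix code of a word. -/
def ev5 (w : List ℕ) : ℕ := w.foldr (fun x r => mC (oC x) r) oneC

/-- The number of the affine code of a letter, with a given translation for the fifth. -/
def sI (u x : ℕ) : ℕ := bif Nat.beq x 5 then 64 * oLinIdx + u else (sexIdx.find? fun e => Nat.beq e.1 x).elim 0 (·.2)

/-- The affine code of a word. -/
def ev7 (u : ℕ) (w : List ℕ) : ℕ := w.foldr (fun x r => mM (md (sI u x)) r) oneM

/-- The letters common to the octad and the sextet groups. -/
def comLet : List ℕ := [0, 1, 2, 3, 5]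

/-- The letters of the sextet group. -/
def sexLet : List ℕ := [0, 1, 2, 3, 5, 7]

/-- An octad generator is an involution fixing the hyperplane. -/
def octOK (x : ℕ) : Bool :=
  Nat.beq (mC (oC x) (oC x)) oneC && (List.range 5).all fun j => (oC x).testBit (20 + j) == Nat.beq j 4

/-- A letter inside the centraliser has the two codes of the pairing. -/
def smallOK (x : ℕ) : Bool :=
  let k := sI oTrans x
  Nat.blt k 138240 && (List.range 21504).any (fun i => Nat.beq (cd i) (oC x)) &&
    (List.range 48).any fun a => Nat.beq (qA a) (k / 64) &&
      Nat.beq (theta (mC (eA (Nat.xor (k % 64) (Sextet.dS a))) (kA1 a))) (oC x)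

/-- The fifth letter acts on the elementary group of the sextet by its linear part. -/
def oActOK : Bool :=
  Nat.blt oLinIdx 2160 && allB (fun v => Nat.beq (mC (oC 5) (theta (eA v))) (mC (theta (eA (app oLinIdx v))) (oC 5))) 64

/-- A translation of the fifth letter is one of two, or breaks a relation. -/
def transOK (u : ℕ) : Bool :=
  Nat.beq u oTrans || Nat.beq u oTransAlt ||
    osWits.any fun w => w.all (fun x => comLet.contains x) && Nat.beq (ev5 w) oneC && !Nat.beq (ev7 u w) oneM

/-- The flip between the two translations. -/
def flipOK : Bool :=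
  Nat.beq (mM (mM (md 1) (md (64 * oLinIdx + oTransAlt))) (md 1)) (md (64 * oLinIdx + oTrans)) &&
    Nat.blt oTrans 64 && Nat.blt oTransAlt 64

/-- A relator holds in one of the two groups or is the trio relator. -/
def relatorOK (w : List ℕ) : Bool :=
  (w.all (fun x => Nat.blt x 7) && Nat.beq (ev5 w) oneC) ||
    (w.all (fun x => sexLet.contains x) && Nat.beq (ev7 oTrans w) oneM) ||
    (w == commRel)

/-- The trio relator is the commutator of the sixth letter and the word of order three. -/
def commOK : Bool :=
  (commRel == 6 :: (fWord ++ 6 :: fWord.reverse)) && fWord.all (fun x => sexLet.contains x)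

/-- The number of an element of the trio's elementary group in the sextet group. -/
def tI (v : ℕ) : ℕ := trioIdx.getD v 0

/-- The trio's elementary group in both groups, and the actions on it. -/
def trioOK (v : ℕ) : Bool :=
  let k := tI v
  Nat.blt k 138240 && ((List.range 48).any fun a => Nat.beq (qA a) (k / 64) &&
      Nat.beq (theta (mC (eA (Nat.xor (k % 64) (Sextet.dS a))) (kA1 a))) (eA v)) &&
    Nat.blt (actP.getD v 64) 64 && Nat.beq (mC (oC 6) (eA v)) (mC (eA (actP.getD v 64)) (oC 6)) &&
    Nat.blt (actF.getD v 64) 64 &&
    Nat.beq (mM (ev7 oTrans fWord) (md k)) (mM (md (tI (actF.getD v 64))) (ev7 oTrans fWord)) &&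
    Nat.beq (actP.getD (actF.getD v 64) 64) (actF.getD (actP.getD v 64) 64) &&
    (Nat.beq v 0 || !Nat.beq (actF.getD v 64) v) &&
    (List.range 64).any fun w => Nat.beq (Nat.xor w (actF.getD w 64)) v

/-- The code of a cut word with the sixth letter moved by an element of the elementary group. -/
def segVal (v : ℕ) : List (List ℕ) → ℕ
  | [] => oneC
  | [s] => ev5 s
  | s :: l => mC (ev5 s) (mC (mC (eA v) (oC 6)) (segVal v l))

/-- A nonzero shift breaks a relation of the complement. -/
def shiftOK (v : ℕ) : Bool :=
  Nat.beq v 0 || trioSegs.any fun segs =>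
    segs.all (fun s => s.all (fun x => comLet.contains x) &&
      Nat.beq (mM (ev7 oTrans fWord) (ev7 oTrans s)) (mM (ev7 oTrans s) (ev7 oTrans fWord))) &&
    (List.range 64).any fun w => Nat.beq (segVal v segs) (eA w) && !Nat.beq w 0

/-- Words generating the octad group. -/
def genOK : Bool :=
  (List.range 4).all (fun k => (colWords.getD k []).all (fun x => Nat.blt x 7) && Nat.beq (ev5 (colWords.getD k [])) (colA (2 ^ k))) &&
  (compWords.getD 0 []).all (fun x => Nat.blt x 7) && Nat.beq (ev5 (compWords.getD 0 [])) L52.genA &&
  (compWords.getD 1 []).all (fun x => Nat.blt x 7) && Nat.beq (ev5 (compWords.getD 1 [])) L52.genB &&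
  (List.range 15).all fun j => (transWords.getD j []).all (fun x => Nat.blt x 7) &&
    Nat.beq (mC (ev5 (transWords.getD j [])) zC) (mC (colA (j + 1)) (ev5 (transWords.getD j [])))

theorem oct_ok : (List.range 7).all octOK = true := by decide +kernel

theorem small_ok : (List.range 4).all smallOK = true := by decide +kernel

theorem oAct_ok : oActOK = true := by decide +kernel

theorem trans_ok : allB transOK 64 = true := by decide +kernel

theorem flip_ok : flipOK = true := by decide +kernel

theorem rel_ok : relators.all relatorOK = true := by decide +kernel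

theorem comm_ok : commOK = true := by decide +kernel

theorem trio_ok : allB trioOK 64 = true := by decide +kernel

theorem shift_ok : allB shiftOK 64 = true := by decide +kernel

theorem gen_ok : genOK = true := by decide +kernel

end Cfsg.Agent.TransvUniq.M24
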