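import Cfsg.Agent.Lib.TransvUniq.M24.Local

/-!
The local input of the M24 branch: generators satisfying the relators, whose first seven generate the image of the
hyperplane stabiliser, and this image contains the centraliser of the involution.
-/

set_option autoImplicit false
set_option maxRecDepth 20000
set_option linter.unusedSectionVars false

namespace Cfsg.Agent.TransvUniq.M24

open Cfsg.Agent.HeUniq.Model Cfsg.Agent.HeUniq.Local Cfsg.Agent.HeUniq.Fus Cfsg.Agent.HeUniq.Excl
open L52 (P1 CS fm colS embS vj av)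
open L5 (S5 M5 dec)
open CosetCert (wprod)
open Subgroup

variable {G : Type*} [Group G] {t : G} {F : Frame G t} {h : P1 →* G} {S : Sextet.Sx F.twist}

theorem oct_mem {w : List ℕ} (hw : ∀ x ∈ w, x < 7) :
    hh h (ev5 w) ∈ Subgroup.closure (letterGen h S '' {x | x < 7}) := by
  rw [← (wprod_oct hw).2]
  refine list_prod_mem fun g hg => ?_
  obtain ⟨x, hx, rfl⟩ := List.mem_map.1 hg
  exact subset_closure ⟨x, hw x hx, rfl⟩

variable [Finite G]

theorem range_le (hF : OnFrame F h) : h.range ≤ Subgroup.closure (letterGen h S '' {x | x < 7}) := by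
  set K := Subgroup.closure (letterGen h S '' {x | x < 7})
  have hg := gen_ok
  simp only [genOK, Bool.and_eq_true, List.all_eq_true, List.mem_range, Nat.blt_eq, Nat.beq_eq] at hg
  obtain ⟨⟨⟨⟨⟨hcol, hA⟩, hA'⟩, hB⟩, hB'⟩, htr⟩ := hg
  have hcolK : ∀ j < 16, F.f (colA j) ∈ K := by
    have hu : ∀ k < 4, F.f (colA (2 ^ k)) ∈ K := fun k hk => by
      obtain ⟨h1, h2⟩ := hcol k hk
      have hlt : 2 ^ k < 16 := Nat.pow_lt_pow_right (by norm_num) hk (a := 2)
      rw [← hh_inC hF (colA_inC hlt), ← h2]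
      exact oct_mem h1
    have h0 : F.f (colA 0) ∈ K := by rw [colA_zero, F.one]; exact one_mem _
    have hx : ∀ i < 16, ∀ j < 16, F.f (colA i) ∈ K → F.f (colA j) ∈ K → F.f (colA (i ^^^ j)) ∈ K :=
      fun i hi j hj a b => by
        rw [← colA_mul hi hj, F.mul (colA_inC hi) (colA_inC hj)]; exact mul_mem a b
    have step : ∀ j : Fin 16, (j : ℕ) = 0 ∨ ∃ k : Fin 4, 2 ^ (k : ℕ) ^^^ (j : ℕ) < (j : ℕ) := by decide +kernel
    intro j
    induction j using Nat.strong_induction_on with
    | _ j ih =>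
      intro hj
      rcases step ⟨j, hj⟩ with e | ⟨k, hk⟩
      · rw [show j = 0 from e]; exact h0
      · have hk' : 2 ^ (k : ℕ) ^^^ j < j := hk
        have hlt : 2 ^ (k : ℕ) < 16 := Nat.pow_lt_pow_right (by norm_num) k.2 (a := 2)
        have := hx _ hlt _ (hk'.trans hj) (hu k k.2) (ih _ hk' (hk'.trans hj))
        rwa [← Nat.xor_assoc, Nat.xor_self, Nat.zero_xor] at this
  have hAK : F.f L52.genA ∈ K := by rw [← hh_inC hF L52.inC_genA, ← hA']; exact oct_mem hA
  have hBK : F.f L52.genB ∈ K := by rw [← hh_inC hF L52.inC_genB, ← hB']; exact oct_mem hB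
  have hnode : ∀ n < 1344, InC (L52.nodeAt n) ∧ F.f (L52.nodeAt n) ∈ K := by
    intro n
    induction n using Nat.strong_induction_on with
    | _ n ih =>
      intro hn
      have he := allB_spec L52.edge_ok n hn
      simp only [L52.edgeOK] at he
      by_cases h0 : n = 0
      · rw [if_pos h0, Nat.beq_eq] at he
        rw [he, F.one]; exact ⟨inC_one, one_mem _⟩
      · rw [if_neg h0, Bool.and_eq_true, Nat.blt_eq, Nat.beq_eq] at he
        obtain ⟨hp, hstep⟩ := he
        change L52.treeAt n / 2 % 2048 < n at hp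
        change mC (L52.nodeAt (L52.treeAt n / 2 % 2048)) _ = _ at hstep
        obtain ⟨hC, hK⟩ := ih _ hp (by omega)
        rw [← hstep]
        cases (L52.treeAt n).testBit 0
        · rw [cond_false, F.mul hC L52.inC_genA]; exact ⟨hC.mul L52.inC_genA, mul_mem hK hAK⟩
        · rw [cond_true, F.mul hC L52.inC_genB]; exact ⟨hC.mul L52.inC_genB, mul_mem hK hBK⟩
  have hCS : ∀ g : CS, fm F g ∈ K := by
    intro g
    obtain ⟨v, B, hB, e⟩ := L52.fm_decomp F g
    rw [e]
    refine mul_mem ?_ ?_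
    · obtain ⟨j, hj⟩ := L52.vj_surj (v 0) (v 1) (v 2) (v 3)
      have hv : v = vj j := by rw [hj]; ext i; fin_cases i <;> rfl
      rw [hv, L52.av_vj F j.2]
      exact hcolK j j.2
    · obtain ⟨a, ⟨i', hi', rfl⟩, he⟩ := L52.exists_code hB
      have hbit : ∀ q < 4, (cd i').testBit (5 * q + 4) = false := by
        intro q hq
        have h := congrFun (congrFun he ⟨q, by omega⟩) 4
        rw [L52.coe_embS] at h
        refine HeUniq.Bit.sc_inj (h.trans ?_)
        interval_cases q <;> rfl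
      have htop : L52.topOK i' = true := by
        rcases Nat.lt_or_ge i' 10752 with h | h
        · exact allB_spec L52.top0_ok i' h
        · exact allB_chunk L52.top1_ok h (by omega)
      simp only [L52.topOK, hbit 0 (by norm_num), hbit 1 (by norm_num), hbit 2 (by norm_num), hbit 3 (by norm_num),
        Bool.false_or, Bool.and_eq_true, Nat.beq_eq] at htop
      obtain ⟨hu0, hc0⟩ := htop
      have hu0' : i' % 8 = 0 := hu0
      have hc0' : i' / 64 % 2 = 0 := hc0
      have hk' : i' / 128 * 8 + i' / 8 % 8 < 1344 := by omega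
      have e : L52.s0 (i' / 128 * 8 + i' / 8 % 8) = cd i' := by
        show cd (128 * ((i' / 128 * 8 + i' / 8 % 8) / 8) + 8 * ((i' / 128 * 8 + i' / 8 % 8) % 8)) = cd i'
        congr 1; omega
      have hp := allB_spec L52.place_ok _ hk'
      simp only [L52.placeOK, Bool.and_eq_true, Nat.blt_eq, Nat.beq_eq] at hp
      rw [L52.fm_code F (inC_cd hi') he.symm, ← e]
      have := (hnode _ hp.1).2
      rwa [L52.nodeAt, hp.2] at this
  rintro _ ⟨g, rfl⟩
  have hzM : L52.colM (vj 8) = dec zC := by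
    rw [← colA_eight]; exact (L52.colA_mat 8).symm
  have hconj : (g : S5) * colS (vj 8) = colS ((L52.blkS g).1.mulVec (vj 8)) * g := by
    refine Subtype.ext ?_
    rw [Matrix.SpecialLinearGroup.coe_mul, Matrix.SpecialLinearGroup.coe_mul, L52.coe_colS, L52.coe_colS]
    have hd := congrArg Subtype.val (L52.decompS g)
    rw [Matrix.SpecialLinearGroup.coe_mul, L52.coe_colS, L52.coe_embS] at hd
    rw [hd, mul_assoc, L52.embM_colM, ← mul_assoc, ← mul_assoc, L52.colM_mul, L52.colM_mul, add_comm]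
  obtain ⟨v, hv⟩ : ∃ v, (L52.blkS g).1.mulVec (vj 8) = v := ⟨_, rfl⟩
  rw [hv] at hconj
  obtain ⟨j, hj⟩ := L52.vj_surj (v 0) (v 1) (v 2) (v 3)
  have hvj : v = vj j := by rw [hj]; ext i; fin_cases i <;> rfl
  have hj0 : (j : ℕ) ≠ 0 := by
    intro h0
    have hv0 : v = 0 := by
      rw [hvj, h0]; decide
    have : (L52.blkS g)⁻¹.1.mulVec ((L52.blkS g).1.mulVec (vj 8)) = vj 8 := by
      rw [Matrix.mulVec_mulVec, ← Matrix.SpecialLinearGroup.coe_mul, inv_mul_cancel,
        Matrix.SpecialLinearGroup.coe_one, Matrix.one_mulVec]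
    rw [hv, hv0, Matrix.mulVec_zero] at this
    exact absurd this (by decide)
  obtain ⟨hw, hwc⟩ := htr ((j : ℕ) - 1) (by omega)
  rw [show (j : ℕ) - 1 + 1 = j by omega] at hwc
  obtain ⟨hwO, -⟩ := wprod_oct (h := h) (S := S) hw
  obtain ⟨ws, hws⟩ := hwO
  have hwm := congrArg dec hwc
  rw [dec_mC, dec_mC, ← hws, L52.colA_mat j, ← hvj, ← hzM] at hwm
  have hk : ((ws⁻¹ * g : P1) : S5) ∈ CS := by
    have e1 : (ws : S5) * colS (vj 8) = colS v * ws := Subtype.ext hwm
    have e2 : ((ws⁻¹ * g : P1) : S5) * colS (vj 8) = colS (vj 8) * ((ws⁻¹ * g : P1) : S5) := by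
      rw [Subgroup.coe_mul, InvMemClass.coe_inv, mul_assoc, hconj, ← mul_assoc, ← mul_assoc]
      refine congrArg (· * (g : S5)) ?_
      refine eq_mul_inv_of_mul_eq ?_
      rw [mul_assoc, ← e1, inv_mul_cancel_left]
    have e3 := congrArg Subtype.val e2
    rw [Matrix.SpecialLinearGroup.coe_mul, Matrix.SpecialLinearGroup.coe_mul, L52.coe_colS, hzM] at e3
    rw [L52.mem_CS, ← toMat_zC]
    exact e3
  rw [show g = ws * (ws⁻¹ * g) from (mul_inv_cancel_left ws g).symm, map_mul, ← hh_eq h hws,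
    hF _ (ws⁻¹ * g).2 hk]
  exact mul_mem (oct_mem hw) (hCS ⟨_, hk⟩)

theorem le_range : Subgroup.closure (letterGen h S '' {x | x < 7}) ≤ h.range := by
  refine (closure_le _).2 ?_
  rintro _ ⟨x, hx, rfl⟩
  obtain ⟨k, hk⟩ := (oct_spec (show x < 7 from hx)).1
  exact ⟨k, by rw [gen_oct (show x < 7 from hx), hh_eq h hk]⟩

/-- **The local input of the M24 branch.** -/
theorem exists_local (hm : mask F = 115) :
    ∃ (gen : ℕ → G) (h : P1 →* G), (∀ x, gen x * gen x = 1) ∧ (∀ w ∈ relators, wprod gen w = 1) ∧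
      OnFrame F h ∧ (∀ x < 7, gen x = hh h (oC x)) ∧ Subgroup.closure (gen '' {x | x < 7}) = h.range ∧
      ∀ g : G, g * t = t * g → g ∈ h.range := by
  obtain ⟨S⟩ := Sextet.exists_sextet F.twist (mask_twist_115 hm)
  obtain ⟨h, hF, h5⟩ := exists_hom hm S
  refine ⟨letterGen h S, h, gen_sq, fun w hw => gen_rel hF h5 hw, hF, fun x hx => gen_oct hx,
    le_antisymm le_range (range_le hF), fun g hg => ?_⟩
  obtain ⟨k, hk⟩ := L52.fm_surj F hg
  exact ⟨⟨k, L52.CS_le_P1 k.2⟩, (hF _ _ k.2).trans hk⟩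

end Cfsg.Agent.TransvUniq.M24
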