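import Cfsg.Agent.Lib.TransvUniq.M24.Product
import Cfsg.Agent.Lib.TransvUniq.M24.Gens

/-! The eight generators as automorphisms of the code on twenty-four points. -/

set_option autoImplicit false
set_option maxRecDepth 100000
set_option Elab.async false

namespace Cfsg.Agent.TransvUniq.M24

open Cfsg Cfsg.Agent.PermCert

/-- The permutations. -/
def genElts : List Elt := [
  (486153693989900211719953377975642212, 486153693989900211719953377975642212),
  (479622745902098040496797631306404167, 479622745902098040496797631306404167),
  (590067889893063254814933093422792930, 590067889893063254814933093422792930),
  (568168969520227136322137167454280835, 568168969520227136322137167454280835),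
  (818496306144062415656110241739771264, 818496306144062415656110241739771264),
  (901804310346620172928117014941182048, 901804310346620172928117014941182048),
  (944323107374070777793977089371737226, 944323107374070777793977089371737226),
  (467493875933220901883141538352473285, 467493875933220901883141538352473285)]

/-- The generators of the code group as products. -/
def genWords : List (List ℕ) := [
  [1, 0, 7, 4, 5, 7, 3, 4, 7, 0, 4, 7, 4],
  [2, 5, 7, 2, 4, 7, 1, 4, 7, 5, 2],
  [2, 5, 7, 4, 1, 7, 2, 4, 5, 0, 2, 4, 6]]

theorem perms_ok : permsOK genElts relators genWords = true := by decide +kernel

end Cfsg.Agent.TransvUniq.M24
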