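import Cfsg.Agent.Lib.TransvUniq.M24.Identify
import Cfsg.Agent.Lib.Compute.CosetCardLe

/-!
A group generated by involutions satisfying the relators of a certified enumeration over a subgroup bounded by
the order of the octad stabiliser is isomorphic to `M₂₄`: the relators hold in the product with `M₂₄`, where
they generate at most as many elements as `M₂₄` has.
-/

set_option autoImplicit false
set_option maxRecDepth 20000

namespace Cfsg.Agent.TransvUniq.M24

open Cfsg Cfsg.Agent.Golay Cfsg.Agent.Golay.Cert Cfsg.Agent.Golay.Local Cfsg.Agent.PermCert Cfsg.Agent.CosetCert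

/-- A finite subgroup of a product, no larger than a simple second factor onto which it projects, is the graph
of an isomorphism. -/
theorem iso_of_product {G K : Type*} [Group G] [Nontrivial G] [Group K] [Finite K] [IsSimpleGroup K]
    (S : Subgroup (G × K)) (hS : CardLe S (Nat.card K)) (h1 : S.map (MonoidHom.fst G K) = ⊤)
    (h2 : S.map (MonoidHom.snd G K) = ⊤) : Nonempty (G ≃* K) := by
  haveI := hS.1
  let p₁ : ↥S →* G := (MonoidHom.fst G K).comp S.subtype
  let p₂ : ↥S →* K := (MonoidHom.snd G K).comp S.subtype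
  have s₁ : Function.Surjective p₁ := by
    rw [← MonoidHom.range_eq_top, MonoidHom.range_comp, Subgroup.range_subtype, h1]
  have s₂ : Function.Surjective p₂ := by
    rw [← MonoidHom.range_eq_top, MonoidHom.range_comp, Subgroup.range_subtype, h2]
  have b₂ : Function.Bijective p₂ :=
    (Nat.bijective_iff_surjective_and_card p₂).2
      ⟨s₂, le_antisymm hS.2 (Nat.card_le_card_of_surjective p₂ s₂)⟩
  let f : ↥S ≃* K := MulEquiv.ofBijective p₂ b₂
  haveI : Nontrivial ↥S := f.toEquiv.nontrivial
  haveI : IsSimpleGroup ↥S := IsSimpleGroup.isSimpleGroup_of_surjective f.symm.toMonoidHom f.symm.surjective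
  have i₁ : Function.Injective p₁ := by
    rw [← MonoidHom.ker_eq_bot_iff]
    refine (IsSimpleGroup.eq_bot_or_eq_top_of_normal _ p₁.normal_ker).resolve_right fun hk => ?_
    obtain ⟨g, hg⟩ := exists_ne (1 : G)
    obtain ⟨z, rfl⟩ := s₁ g
    exact hg (MonoidHom.mem_ker.1 (hk ▸ Subgroup.mem_top z))
  exact ⟨(MulEquiv.ofBijective p₁ ⟨i₁, s₁⟩).symm.trans f⟩

/-- A relator holds for coded permutations. -/
def relOK (es : List Elt) (w : List ℕ) : Bool :=
  w.all (fun i => Nat.blt i es.length) && sameF (codeWord es w) idC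

/-- A word read in the code group. -/
theorem wprod_wordPerm (es : List Elt) (l : List ℕ) :
    wprod (fun i => permOf (es.getD i (0, 0))) l = wordPerm es l := by
  induction l with
  | nil => simp [wprod, wordPerm]
  | cons i l ih => rw [wordPerm, ← ih]; simp [wprod]

/-- The data of the permutations: automorphisms of the code, squaring to one, satisfying the relators and
generating the group of the code. -/
def permsOK (es : List Elt) (base words : List (List ℕ)) : Bool :=
  es.all (fun e => validElt 5 24 e && isAutB e && sameF (cmpF e.1 e.1) idC) && base.all (relOK es) &&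
    wordsOK es words

/-- **Identification with `M₂₄` from an enumeration.** -/
theorem iso_of_cert {G : Type*} [Group G] [Nontrivial G] {P : Params} (gen : ℕ → G)
    (hinv : ∀ x, gen x * gen x = 1) (hgen : Subgroup.closure (gen '' {x | x < P.k}) = ⊤)
    {es : List Elt} (hk : es.length = P.k) {base : List (List ℕ)} (hbase : ∀ w ∈ base, wprod gen w = 1)
    {words : List (List ℕ)} (hes : permsOK es base words = true)
    {hints : List (ℕ × ℕ × Bool)} (hrots : rotsOK base P.rots.entries hints = true)
    {sw : List (List ℕ)} (hsubs : (P.subs.all fun w => sw.any fun u => wordEq w u || wordEq w.reverse u) = true)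
    (hpara : ∀ E : ℕ → G × ↥Cfsg.M24, (∀ x, E x * E x = 1) → (∀ w ∈ base, wprod E w = 1) →
      ∃ K : Subgroup (G × ↥Cfsg.M24), CardLe K 322560 ∧ ∀ w ∈ sw, wprod E w ∈ K)
    {tree : List ℕ} {phases : List Phase} (hcert : CosetCert.checkCert P 759 tree phases = true)
    (htab : CosetCert.tableOK P 759 = true) : Nonempty (G ≃* ↥Cfsg.M24) := by
  haveI := isSimpleGroup_M24
  simp only [permsOK, Bool.and_eq_true] at hes
  obtain ⟨⟨he, hrel⟩, hwords⟩ := hes
  have hv : ∀ d ∈ es, validElt 5 24 d = true ∧ isAutB d = true ∧ sameF (cmpF d.1 d.1) idC = true := fun d hd => by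
    simpa [and_assoc] using List.all_eq_true.1 he d hd
  have hmem : ∀ i, i < es.length → permOf (es.getD i (0, 0)) ∈ Cfsg.M24 := fun i hi => by
    rw [List.getD_eq_getElem _ _ hi]
    have := hv _ (List.getElem_mem hi)
    exact permOf_mem_M24 this.1 this.2.1
  let σ : ℕ → ↥Cfsg.M24 := fun i => if h : i < es.length then ⟨_, hmem i h⟩ else 1
  let E : ℕ → G × ↥Cfsg.M24 := fun i => if i < es.length then (gen i, σ i) else 1
  have eσ : ∀ i, i < es.length → ((σ i : ↥Cfsg.M24) : Equiv.Perm GolayPt) = permOf (es.getD i (0, 0)) :=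
    fun i hi => by simp [σ, hi]
  have hword : ∀ w : List ℕ, (∀ i ∈ w, i < es.length) → (wprod E w).1 = wprod gen w ∧
      (((wprod E w).2 : ↥Cfsg.M24) : Equiv.Perm GolayPt) = wordPerm es w := by
    intro w
    induction w with
    | nil => intro _; simp [wprod, wordPerm]
    | cons i w ih =>
      intro h
      have hi := h i List.mem_cons_self
      obtain ⟨a1, a2⟩ := ih fun j hj => h j (List.mem_cons_of_mem _ hj)
      have e : wprod E (i :: w) = E i * wprod E w := by simp [wprod]
      have e' : wprod gen (i :: w) = gen i * wprod gen w := by simp [wprod]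
      rw [e, e', wordPerm]
      refine ⟨?_, ?_⟩
      · rw [Prod.fst_mul, a1]; simp [E, hi]
      · rw [Prod.snd_mul, Subgroup.coe_mul, a2]; simp [E, hi, eσ i hi]
  have hsq : ∀ x, E x * E x = 1 := fun x => by
    by_cases hx : x < es.length
    · refine Prod.ext (by simp [E, hx, hinv]) (Subtype.ext ?_)
      have h := hv _ (List.getElem_mem hx)
      have hc := code_permOf h.1
      have e2 := (sameF_iff (hc.cmp hc) code_idC).1 h.2.2
      simp only [E, if_pos hx, Prod.snd_mul, Prod.snd_one, Subgroup.coe_mul, Subgroup.coe_one, eσ x hx,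
        List.getD_eq_getElem _ _ hx]
      exact e2
    · simp [E, hx]
  have hbaseE : ∀ w ∈ base, wprod E w = 1 := fun w hw => by
    have h := List.all_eq_true.1 hrel w hw
    simp only [relOK, Bool.and_eq_true, List.all_eq_true, Nat.blt_eq] at h
    obtain ⟨a1, a2⟩ := hword w h.1
    refine Prod.ext (a1.trans (hbase w hw)) (Subtype.ext (a2.trans ?_))
    exact (sameF_iff (code_codeWord (fun d hd => (hv d hd).1) w h.1) code_idC).1 h.2
  obtain ⟨K, hLE, hHE⟩ := hpara E hsq hbaseE
  have hcard := cardLe_of_cert hsq hbaseE hrots hHE hsubs hcert htab hLE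
  refine iso_of_product _ (K := ↥Cfsg.M24) (by rw [card_M24]; exact hcard) ?_ ?_
  · rw [MonoidHom.map_closure, ← hgen]
    congr 1
    ext z
    simp only [Set.mem_image, Set.mem_ofPred_eq, exists_exists_and_eq_and]
    exact exists_congr fun x => and_congr_right fun hx => by simp [E, hk ▸ hx]
  · refine Subgroup.map_injective Cfsg.M24.subtype_injective ?_
    rw [← MonoidHom.range_eq_map Cfsg.M24.subtype, Subgroup.range_subtype, MonoidHom.map_closure,
      MonoidHom.map_closure]
    refine le_antisymm ((Subgroup.closure_le _).2 ?_) ?_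
    · rintro _ ⟨k, -, rfl⟩; exact k.2
    · refine genPerm_M24.symm.le.trans ?_
      rw [Golay.genPerm, genGroup, MonoidHom.map_closure, Subgroup.closure_le]
      rintro _ ⟨τ, hτ, rfl⟩
      obtain ⟨d, hd, rfl⟩ := List.mem_map.1 hτ
      obtain ⟨n, hn, rfl⟩ := List.mem_iff_getElem.1 hd
      have h := allBelow_spec _ _ hwords n hn
      simp only [Bool.and_eq_true, List.all_eq_true, Nat.blt_eq] at h
      have hw := code_codeWord (fun d hd => (hv d hd).1) _ h.1
      have hvn : validElt 5 24 m24Gens[n] = true := List.all_eq_true.1 gens_valid _ (List.getElem_mem hn)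
      rw [List.getD_eq_getElem _ _ hn] at h
      show permOf m24Gens[n] ∈ _
      rw [(sameF_iff (code_permOf hvn) hw).1 h.2]
      refine Subgroup.closure_mono ?_ (wordPerm_mem _ h.1)
      rintro _ ⟨e, he', rfl⟩
      obtain ⟨i, hi, rfl⟩ := List.mem_iff_getElem.1 he'
      refine ⟨σ i, ⟨E i, ⟨i, hk ▸ hi, rfl⟩, by simp [E, hi]⟩, ?_⟩
      show ((σ i : ↥Cfsg.M24) : Equiv.Perm GolayPt) = _
      rw [eσ i hi, List.getD_eq_getElem _ _ hi]

end Cfsg.Agent.TransvUniq.M24
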